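import Mathlib
import Groth.Prelude.Def_DerSch
import Groth.Prelude.Def_DTor2
import Groth.Agent.Lib.Helper5.TorAmp.Char
import Groth.Agent.Lib.Helper5.StalkTen.StalkTot
import Groth.Agent.Lib.Helper5.StalkTen.KFlatStalk
import Groth.Agent.Lib.Helper5.KFlatSite2.TorAmpIff
import Groth.Agent.Lib.Helper5.KFlatSite2.BddCell
import Groth.Agent.Lib.Helper5.KFlat.Bdd

/-!
# Flat amplitude is a stalkwise property (helper5)
-/
set_option autoImplicit false
set_option linter.unusedSectionVars false
set_option linter.unusedVariables false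
universe u
open CategoryTheory CategoryTheory.Limits AlgebraicGeometry HomologicalComplex ZeroObject
attribute [local instance] HasDerivedCategory.standard

namespace Groth.Agent.Lib.Helper5.KSixFlat

open Groth.Agent.Lib.Helper5.StalkTot Groth.Agent.Lib.Helper5.StalkAdj
  Groth.Agent.Lib.Helper5.StalkTenS Groth.Agent.Lib.Helper5.KFlatSiteQ
  Groth.Agent.Lib.Helper5.Misc.StalkFlatSch
open Groth.Agent.Helper5.TorAmp Groth.Agent.Helper5.FlatAcyc

variable {X : Scheme.{u}}

/-- the stalk complex functor sends isomorphic objects of `D(O_X)` to isomorphic objects of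
`D(O_{X,x})` -/
noncomputable def stalkDIso (x : X) {F G : CochainComplex X.Modules ℤ}
    (e : DCoh.toD X F ≅ DCoh.toD X G) :
    DRing.toD (stalkCx X x F) ≅ DRing.toD (stalkCx X x G) :=
  ((stalkSh X x).mapDerivedCategoryFactors.app F).symm ≪≫
    (stalkSh X x).mapDerivedCategory.mapIso e ≪≫
    (stalkSh X x).mapDerivedCategoryFactors.app G

/-- the stalk over the identity is the stalk -/
noncomputable def stalkOverIdIso (x : X) : DerSch.stalkOver (𝟙 X) x ≅ stalkSh X x :=
  Functor.isoWhiskerLeft (DerSch.stalkFunctor X x)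
      (ModuleCat.restrictScalarsId' ((𝟙 X : X ⟶ X).stalkMap x).hom
        (by rw [Scheme.Hom.stalkMap_id]; rfl)) ≪≫
    Functor.rightUnitor _ ≪≫ stalkFunctorIso X x

/-- the complex of stalks over the identity -/
noncomputable def stalkCxOverIdIso (x : X) (F : CochainComplex X.Modules ℤ) :
    (DerSch.stalkCxOver (𝟙 X) x).obj F ≅ stalkCx X x F :=
  HomologicalComplex.Hom.isoOfComponents (fun i => (stalkOverIdIso x).app (F.X i))
    (fun i j _ => ((stalkOverIdIso x).hom.naturality (F.d i j)).symm)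

theorem hasTorAmplitudeAt_id_iff (x : X) (F : CochainComplex X.Modules ℤ) (a b : ℤ) :
    DerSch.HasTorAmplitudeAt (𝟙 X) a b F x ↔
      DRing.HasTorAmplitudeIn (X.presheaf.stalk x) a b (DRing.toD (stalkCx X x F)) :=
  ⟨fun h => hasTorAmplitudeIn_of_iso (DerivedCategory.Q.mapIso (stalkCxOverIdIso x F)) h,
    fun h => hasTorAmplitudeIn_of_iso (DerivedCategory.Q.mapIso (stalkCxOverIdIso x F)).symm h⟩

/-- the stalk of a termwise tensor product with a module -/
noncomputable def stalkTensorRightCx (x : X) (G : X.Modules) (K : CochainComplex X.Modules ℤ) :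
    stalkCx X x (((DCoh.tensorRightMod G).mapHomologicalComplex (ComplexShape.up ℤ)).obj K) ≅
      (TM ((stalkSh X x).obj G)).obj (stalkCx X x K) :=
  HomologicalComplex.Hom.isoOfComponents (fun i => stalkTensorIsoS X x (K.X i) G)
    (fun i j _ => (stalkTensorIsoS_naturality_left x (K.d i j) G).symm)

/-- flat amplitude gives stalkwise tor amplitude -/
theorem stalk_torAmplitude_of_hasFlatAmplitudeIn (F : CochainComplex X.Modules ℤ) (a b : ℤ)
    (h : DCoh.HasFlatAmplitudeIn a b (DCoh.toD X F)) (x : X) :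
    DRing.HasTorAmplitudeIn (X.presheaf.stalk x) a b (DRing.toD (stalkCx X x F)) := by
  obtain ⟨E, h1, h2, ⟨e⟩⟩ := h
  exact ⟨stalkCx X x E, fun i hi => (stalkSh X x).map_isZero (h1 i hi), fun i => h2 i x,
    ⟨stalkDIso x e⟩⟩

/-- stalkwise tor amplitude gives flat amplitude, for bounded above objects -/
theorem hasFlatAmplitudeIn_of_stalks (F : CochainComplex X.Modules ℤ) (d : ℤ)
    [(DCoh.toD X F).IsLE d] (a b : ℤ)
    (h : ∀ x : X, DRing.HasTorAmplitudeIn (X.presheaf.stalk x) a b
      (DRing.toD (stalkCx X x F))) :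
    DCoh.HasFlatAmplitudeIn a b (DCoh.toD X F) := by
  have : F.IsLE d := (DerivedCategory.isLE_Q_obj_iff F d).1 inferInstance
  obtain ⟨K, q, hcell, hq, hKb⟩ : ∃ (K : CochainComplex X.Modules ℤ) (q : K ⟶ F.truncLE d),
      Cell X.sheaf K ∧ QuasiIso q ∧ ∀ p, d + 1 < p → IsZero (K.X p) :=
    exists_bdd_cell_resolution X.sheaf (F.truncLE d) d
      (fun p hp => (F.truncLE d).isZero_of_isStrictlyLE d p hp)
  obtain ⟨hKf, hKfl⟩ := hcell.isKFlat
  have : IsIso (DerivedCategory.Q.map q) := (DerivedCategory.isIso_Q_map_iff_quasiIso _ q).2 hq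
  have : IsIso (DerivedCategory.Q.map (F.ιTruncLE d)) := by
    rw [DerivedCategory.isIso_Q_map_iff_quasiIso]; infer_instance
  have eK : DCoh.toD X K ≅ DCoh.toD X F :=
    asIso (DerivedCategory.Q.map q) ≪≫ asIso (DerivedCategory.Q.map (F.ιTruncLE d))
  have hTV : ∀ x : X, TorVan a b (stalkCx X x K) := fun x =>
    (hasTorAmplitudeIn_iff (stalkCx X x K) (fun i => Groth.Agent.Lib.Helper5.Pure.flatMod_of_isFlat _ (hKfl i) x) (d + 1)
      (fun i hi => (stalkSh X x).map_isZero (hKb i hi)) a b).1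
      (hasTorAmplitudeIn_of_iso (stalkDIso x eK).symm (h x))
  by_cases hab : a ≤ b
  · apply Groth.Agent.Lib.Helper5.Pure.hasFlatAmplitudeIn_of_hasTorAmplitudeIn _ a b hab
      (fun G => Groth.Agent.Lib.Helper5.LTM.hasLTensorMod G)
    apply Groth.Agent.Lib.Helper5.Pure.hasTorAmplitudeIn_of_iso eK
    intro G _ i hi
    refine IsZero.of_iso ?_ ((DerivedCategory.homologyFunctor _ i).mapIso
      (Groth.Agent.Lib.Helper5.LTM.ltensorModObjIso G K hKf) ≪≫
      (DerivedCategory.homologyFunctorFactors _ i).app _)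
    change IsZero (HomologicalComplex.homology _ i)
    rw [← exactAt_iff_isZero_homology]
    apply exactAt_of_stalks
    intro x
    exact ((hTV x) ((stalkSh X x).obj G) i hi).of_iso (stalkTensorRightCx x G K).symm
  · have hac : K.Acyclic := fun i =>
      exactAt_of_stalks K i (fun x => (hTV x).exactAt i (by omega))
    have hz : IsZero (DCoh.toD X K) := (isZero_Q_iff_acyclic K).2 hac
    refine ⟨0, fun i _ => (HomologicalComplex.eval _ _ i).map_isZero (isZero_zero _), fun i x => ?_,
      ⟨?_⟩⟩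
    · exact Groth.Agent.Lib.Helper5.KFlat.flat_of_isZero
        ((stalkSh X x).map_isZero ((HomologicalComplex.eval _ _ i).map_isZero (isZero_zero _)))
    · exact (IsZero.iso (DerivedCategory.Q.map_isZero (isZero_zero _)) hz) ≪≫ eK

/-- **Flat amplitude is stalkwise tor amplitude** (bounded above objects). -/
theorem hasFlatAmplitudeIn_iff_stalks (F : CochainComplex X.Modules ℤ) (d : ℤ)
    [(DCoh.toD X F).IsLE d] (a b : ℤ) :
    DCoh.HasFlatAmplitudeIn a b (DCoh.toD X F) ↔ DerSch.HasTorAmplitude (𝟙 X) a b F :=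
  ⟨fun h x => (hasTorAmplitudeAt_id_iff x F a b).2
      (stalk_torAmplitude_of_hasFlatAmplitudeIn F a b h x),
    fun h => hasFlatAmplitudeIn_of_stalks F d a b
      (fun x => (hasTorAmplitudeAt_id_iff x F a b).1 (h x))⟩

end Groth.Agent.Lib.Helper5.KSixFlat
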