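import Mathlib
import Groth.Prelude.Def_DerSch
import Groth.Agent.Lib.Helper5.TorAmp.TorRes
import Groth.Agent.Lib.Helper5.StalkTen.StalkTot
import Groth.Agent.Lib.Helper5.Stalk.FlatFree

/-!
# Stalkwise tor amplitude relative to a composite (helper5)
-/
set_option autoImplicit false
set_option linter.unusedSectionVars false
set_option linter.unusedVariables false
universe u
open CategoryTheory CategoryTheory.Limits AlgebraicGeometry
attribute [local instance] HasDerivedCategory.standard

namespace Groth.Agent.Lib.Helper5.KSixTor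

open Groth.Agent.Lib.Helper5.StalkTot Groth.Agent.Lib.Helper5.StalkAdj
open Groth.Agent.Helper5.TorAmp

variable {X Y Z : Scheme.{u}}

/-- restriction of scalars of `B` over itself is `B` as an `A`-algebra -/
noncomputable def restrictSelfIso {A B : Type u} [CommRing A] [CommRing B] [Algebra A B] :
    (ModuleCat.restrictScalars.{u} (algebraMap A B)).obj (ModuleCat.of B B) ≅ ModuleCat.of A B :=
  (AddEquiv.toLinearEquiv
    (M := ↑((ModuleCat.restrictScalars.{u} (algebraMap A B)).obj (ModuleCat.of B B)))
    (M₂ := ↑(ModuleCat.of A B))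
    (by rfl)
    (fun r x => (Algebra.smul_def r (show B from x)).symm)).toModuleIso

/-- the complex of stalks of the structure sheaf, over the base, is the local ring in degree `0` -/
noncomputable def stalkUnitCxIso (g : Y ⟶ Z) (y : Y) :
    letI : Algebra (Z.presheaf.stalk (g.base y)) (Y.presheaf.stalk y) := (g.stalkMap y).hom.toAlgebra
    DRing.toD ((DerSch.stalkCxOver g y).obj (DerSch.unitCx Y)) ≅
      Dual.inD (Z.presheaf.stalk (g.base y)) (Y.presheaf.stalk y) := by
  letI : Algebra (Z.presheaf.stalk (g.base y)) (Y.presheaf.stalk y) := (g.stalkMap y).hom.toAlgebra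
  refine DerivedCategory.Q.mapIso
    ((HomologicalComplex.singleMapHomologicalComplex (DerSch.stalkOver g y) (ComplexShape.up ℤ) 0).app
      (Coh.structureModule Y)) ≪≫ ?_
  refine ?_ ≪≫ ((DerivedCategory.singleFunctorIsoCompQ (ModuleCat.{u} (Z.presheaf.stalk (g.base y))) 0).app
      (ModuleCat.of (Z.presheaf.stalk (g.base y)) (Y.presheaf.stalk y))).symm
  refine DerivedCategory.Q.mapIso ((HomologicalComplex.single _ (ComplexShape.up ℤ) 0).mapIso ?_)
  refine (ModuleCat.restrictScalars.{u} (g.stalkMap y).hom).mapIso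
    ((stalkFunctorIso Y y).app (Coh.structureModule Y) ≪≫ (stalkUnitIso Y y).symm) ≪≫ ?_
  exact restrictSelfIso

/-- **Tor amplitude relative to a composite.** -/
theorem hasTorAmplitude_comp (f : X ⟶ Y) (g : Y ⟶ Z) (n : ℕ) (hg : DerSch.HasTorDimLE g n)
    (F : CochainComplex X.Modules ℤ) (a b : ℤ) (hF : DerSch.HasTorAmplitude f a b F) :
    DerSch.HasTorAmplitude (f ≫ g) (a - n) b F := by
  intro x
  let _ : Algebra (Z.presheaf.stalk (g.base (f.base x))) (Y.presheaf.stalk (f.base x)) :=
    (g.stalkMap (f.base x)).hom.toAlgebra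
  have hB := hasTorAmplitudeIn_of_iso (stalkUnitCxIso g (f.base x)) (hg (f.base x))
  have h1 := Groth.Agent.Helper5.TorRes.s6947 n hB _ a b (hF x)
  let R := ModuleCat.restrictScalars.{u} (g.stalkMap (f.base x)).hom
  have e1 : (DRing.restrictD (algebraMap (Z.presheaf.stalk (g.base (f.base x)))
      (Y.presheaf.stalk (f.base x)))).obj (DRing.toD ((DerSch.stalkCxOver f x).obj F)) ≅
      DRing.toD ((R.mapHomologicalComplex (ComplexShape.up ℤ)).obj ((DerSch.stalkCxOver f x).obj F)) :=
    R.mapDerivedCategoryFactors.app _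
  have e2 : DerSch.stalkOver f x ⋙ R ≅ DerSch.stalkOver (f ≫ g) x :=
    Functor.associator _ _ _ ≪≫ Functor.isoWhiskerLeft (DerSch.stalkFunctor X x)
      (ModuleCat.restrictScalarsComp' (g.stalkMap (f.base x)).hom (f.stalkMap x).hom
        ((f ≫ g).stalkMap x).hom (by rw [Scheme.Hom.stalkMap_comp]; rfl)).symm
  have e3 : (R.mapHomologicalComplex (ComplexShape.up ℤ)).obj ((DerSch.stalkCxOver f x).obj F) ≅
      (DerSch.stalkCxOver (f ≫ g) x).obj F :=
    HomologicalComplex.Hom.isoOfComponents (fun i => e2.app (F.X i))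
      (fun i j _ => (e2.hom.naturality (F.d i j)).symm)
  exact hasTorAmplitudeIn_of_iso (e1 ≪≫ DerivedCategory.Q.mapIso e3) h1

end Groth.Agent.Lib.Helper5.KSixTor
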