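import Mathlib
import Groth.Agent.Lib.Helper5.KSix.FlatAmpStalk
import Groth.Agent.Lib.Helper5.Stalk.Lpull
import Groth.Agent.Lib.Helper5.Stalk.FlatPull
import Groth.Agent.Lib.Helper5.TorAmp.BaseChange
import Groth.Agent.Lib.Helper5.Perf.PerfIff

/-!
# Flat amplitude descends along flat surjective morphisms (helper5)
-/
set_option autoImplicit false
set_option linter.unusedSectionVars false
set_option linter.unusedVariables false
universe u
open CategoryTheory CategoryTheory.Limits AlgebraicGeometry HomologicalComplex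
attribute [local instance] HasDerivedCategory.standard

namespace Groth.Agent.Lib.Helper5.KSixDesc

open Groth.Agent.Lib.Helper5.StalkTot Groth.Agent.Lib.Helper5.StalkAdj
  Groth.Agent.Lib.Helper5.KFlatSiteQ Groth.Agent.Lib.Helper5.LpullLib
  Groth.Agent.Lib.Helper5.KSixFlat
open Groth.Agent.Helper5.TorAmp Groth.Agent.Helper5.FlatAcyc Groth.Agent.Helper5.FlatBC

variable {X Y : Scheme.{u}} (f : X ⟶ Y)

/-- for flat `f`, `Lf^*` is computed by the termwise pullback of any representative -/
theorem nonempty_lpullObjIso_of_flat [Flat f] [DCoh.HasLpull f] (F : CochainComplex Y.Modules ℤ) :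
    Nonempty ((DCoh.Lpull f).obj (DCoh.toD Y F) ≅
      DCoh.toD X (((Scheme.Modules.pullback f).mapHomologicalComplex (ComplexShape.up ℤ)).obj F)) := by
  obtain ⟨P, p, h1, h2, h3, _⟩ : ∃ (P : CochainComplex Y.Modules ℤ) (p : P ⟶ F), DCoh.IsKFlat P ∧
      (∀ n : ℤ, ModSite.IsFlat (O := Y.sheaf) (P.X n)) ∧ QuasiIso p ∧ ∀ n : ℤ, Epi (p.f n) :=
    exists_isKFlat_resolution (O := Y.sheaf) F
  have : IsIso (DerivedCategory.Q.map p) := (DerivedCategory.isIso_Q_map_iff_quasiIso _ p).2 h3
  have hq : QuasiIso (((Scheme.Modules.pullback f).mapHomologicalComplex (ComplexShape.up ℤ)).map p) :=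
    inferInstance
  have : IsIso (DerivedCategory.Q.map
      (((Scheme.Modules.pullback f).mapHomologicalComplex (ComplexShape.up ℤ)).map p)) :=
    (DerivedCategory.isIso_Q_map_iff_quasiIso _ _).2 hq
  exact ⟨(DCoh.Lpull f).mapIso (asIso (DerivedCategory.Q.map p)).symm ≪≫
    lpullObjIso f P ⟨h1, h2⟩ ≪≫ asIso (DerivedCategory.Q.map
      (((Scheme.Modules.pullback f).mapHomologicalComplex (ComplexShape.up ℤ)).map p))⟩

/-- the stalk of a termwise pullback -/
noncomputable def stalkPullCxIso (x : X) (F : CochainComplex Y.Modules ℤ) :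
    stalkCx X x (((Scheme.Modules.pullback f).mapHomologicalComplex (ComplexShape.up ℤ)).obj F) ≅
      ((ModuleCat.extendScalars.{u, u, u} (f.stalkMap x).hom).mapHomologicalComplex
        (ComplexShape.up ℤ)).obj (stalkCx Y (f x) F) :=
  HomologicalComplex.Hom.isoOfComponents (fun i => (stalkPullbackIso f x).app (F.X i))
    (fun i j _ => ((stalkPullbackIso f x).hom.naturality (F.d i j)).symm)

/-- **Flat amplitude descends along flat surjective morphisms.** -/
theorem hasFlatAmplitudeIn_descends [Flat f] [Surjective f] [DCoh.HasLpull f] (E : DCoh.D Y)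
    (a b : ℤ) (h : DCoh.HasFlatAmplitudeIn a b ((DCoh.Lpull f).obj E)) :
    DCoh.HasFlatAmplitudeIn a b E := by
  obtain ⟨F, ⟨eF⟩⟩ : ∃ F : CochainComplex Y.Modules ℤ, Nonempty (DCoh.toD Y F ≅ E) :=
    ⟨_, ⟨DerivedCategory.Q.objObjPreimageIso E⟩⟩
  obtain ⟨e1⟩ := nonempty_lpullObjIso_of_flat f F
  have h' : DCoh.HasFlatAmplitudeIn a b
      (DCoh.toD X (((Scheme.Modules.pullback f).mapHomologicalComplex (ComplexShape.up ℤ)).obj F)) :=
    Groth.Agent.Lib.Helper5.PerfIff.hasFlatAmplitudeIn_of_iso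
      ((DCoh.Lpull f).mapIso eF.symm ≪≫ e1) h
  have hst : ∀ y : Y, DRing.HasTorAmplitudeIn (Y.presheaf.stalk y) a b
      (DRing.toD (stalkCx Y y F)) := by
    intro y
    obtain ⟨x, rfl⟩ := f.surjective y
    have h1 := stalk_torAmplitude_of_hasFlatAmplitudeIn _ a b h' x
    let _ : Algebra (Y.presheaf.stalk (f x)) (X.presheaf.stalk x) := (f.stalkMap x).hom.toAlgebra
    have : Module.Flat (Y.presheaf.stalk (f x)) (X.presheaf.stalk x) := Flat.stalkMap f x
    have : IsLocalHom (algebraMap (Y.presheaf.stalk (f x)) (X.presheaf.stalk x)) :=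
      show IsLocalHom (f.stalkMap x).hom from inferInstance
    have : Module.FaithfullyFlat (Y.presheaf.stalk (f x)) (X.presheaf.stalk x) :=
      Module.FaithfullyFlat.of_flat_of_isLocalHom
    exact s6950 (X.presheaf.stalk x) (stalkCx Y (f x) F) a b
      (hasTorAmplitudeIn_of_iso (DerivedCategory.Q.mapIso (stalkPullCxIso f x F)) h1)
  have hle : (DCoh.toD Y F).IsLE b := by
    rw [DerivedCategory.isLE_Q_obj_iff, CochainComplex.isLE_iff]
    intro i hi
    apply exactAt_of_stalks
    intro y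
    have h2 := bounded_of_hasTorAmplitudeIn (hst y) i (Or.inr hi)
    rw [exactAt_iff_isZero_homology]
    have h3 : IsZero ((DerivedCategory.homologyFunctor (ModuleCat.{u} (Y.presheaf.stalk y)) i).obj
        (DRing.toD (stalkCx Y y F))) := @ModuleCat.isZero_of_subsingleton _ _ _ h2
    exact h3.of_iso ((DerivedCategory.homologyFunctorFactors _ i).app (stalkCx Y y F)).symm
  exact Groth.Agent.Lib.Helper5.PerfIff.hasFlatAmplitudeIn_of_iso eF
    (hasFlatAmplitudeIn_of_stalks F b a b hst)

end Groth.Agent.Lib.Helper5.KSixDesc
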