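import Mathlib
import Groth.Prelude.Def_DRing4
import Groth.Agent.Lib.Helper5.KProj.PtKan
import Groth.Agent.Lib.Helper5.KFlat.Symm
import Groth.Agent.Lib.Helper5.DTenLib.Basic
import Groth.Agent.Lib.Helper5.DTenLib.ExtQis
import Groth.Agent.Lib.Helper5.TorAmp.FlatTrunc

set_option autoImplicit false
set_option linter.unusedSectionVars false
set_option linter.unusedVariables false
set_option linter.style.haveILetI false
universe u
open CategoryTheory CategoryTheory.Limits MonoidalCategory
attribute [local instance] HasDerivedCategory.standard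

namespace Groth.Agent.Lib.Helper5.KSixLT

open Groth.Agent.Lib.Helper5.KProj Groth.Agent.Lib.Helper5.KFlat Groth.Agent.Lib.Helper5.DTenLib
open Groth.Agent.Helper5.FlatAcyc

variable (A : Type u) [CommRing A]

/-- the class of quasi-isomorphisms -/
abbrev W : MorphismProperty (DRing.Cx A) :=
  HomologicalComplex.quasiIso (ModuleCat.{u} A) (ComplexShape.up ℤ)

theorem tensorCxQ_map_eq (E : DRing.Cx A) {X Y : DRing.Cx A} (f : X ⟶ Y) :
    (DRing.tensorCxQ A E).map f = DerivedCategory.Q.map (f ▷ E) := rfl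

theorem goodCx (E P : DRing.Cx A) [P.IsKProjective] :
    PtKan.Good DerivedCategory.Q (DRing.tensorCxQ A E) P where
  surj := fun Y u => exists_Q_map_eq P Y u
  inv := fun Y f g h => by
    obtain ⟨h1⟩ := homotopy_of_Q_map_eq P f g h
    rw [tensorCxQ_map_eq, tensorCxQ_map_eq]
    have H : Homotopy (f ▷ E) (g ▷ E) :=
      HomologicalComplex.mapBifunctorMapHomotopy₁ h1 (𝟙 E) (curriedTensor (ModuleCat.{u} A))
        (ComplexShape.up ℤ)
    exact Q_map_eq_of_homotopy H

theorem enoughCx (E : DRing.Cx A) (X : DRing.Cx A) :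
    ∃ (P : DRing.Cx A) (f : P ⟶ X), W A f ∧ PtKan.Good DerivedCategory.Q (DRing.tensorCxQ A E) P :=
  ⟨res X, resMap X, (HomologicalComplex.mem_quasiIso_iff _).2 inferInstance, goodCx A E _⟩

/-- the counit of the derived tensor product -/
noncomputable abbrev counit (E : DRing.Cx A) [DRing.HasLTensorCx A E] :
    DerivedCategory.Q ⋙ DRing.LTensorCx A E ⟶ DRing.tensorCxQ A E :=
  (DRing.tensorCxQ A E).totalLeftDerivedCounit DerivedCategory.Q (W A)

theorem isIso_counit_app (E : DRing.Cx A) [DRing.HasLTensorCx A E] (P : DRing.Cx A)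
    [P.IsKProjective] : IsIso ((counit A E).app P) :=
  PtKan.isIso_counit_app DerivedCategory.Q (DRing.tensorCxQ A E) (W A) (enoughCx A E)
    (DRing.LTensorCx A E) (counit A E) (goodCx A E P)

/-- `P ⊗^L E = P ⊗ E` for K-projective `P` -/
noncomputable def ltIso (E : DRing.Cx A) [DRing.HasLTensorCx A E] (P : DRing.Cx A)
    [P.IsKProjective] :
    (DRing.LTensorCx A E).obj (DerivedCategory.Q.obj P) ≅ DerivedCategory.Q.obj (P ⊗ E) :=
  haveI := isIso_counit_app A E P
  asIso ((counit A E).app P)

variable {A}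

theorem isZero_homology_iff_of_quasiIso {X Y : DRing.Cx A} (f : X ⟶ Y) [QuasiIso f] (i : ℤ) :
    IsZero (X.homology i) ↔ IsZero (Y.homology i) :=
  (asIso (HomologicalComplex.homologyMap f i)).isZero_iff

theorem isZero_HD_Q_iff (X : DRing.Cx A) (i : ℤ) :
    IsZero ((DerivedCategory.homologyFunctor (ModuleCat.{u} A) i).obj (DerivedCategory.Q.obj X)) ↔
      IsZero (X.homology i) :=
  ((DerivedCategory.homologyFunctorFactors (ModuleCat.{u} A) i).app X).isZero_iff

/-- the module `M` as a complex in degree zero -/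
noncomputable abbrev S (M : ModuleCat.{u} A) : DRing.Cx A :=
  (CochainComplex.singleFunctor (ModuleCat.{u} A) 0).obj M

theorem isZero_S_X (M : ModuleCat.{u} A) (n : ℤ) (hn : n ≠ 0) : IsZero ((S M).X n) :=
  HomologicalComplex.isZero_single_obj_X (ComplexShape.up ℤ) 0 M n hn

noncomputable def SXIso (M : ModuleCat.{u} A) : (S M).X 0 ≅ M :=
  HomologicalComplex.singleObjXSelf (ComplexShape.up ℤ) 0 M

/-- **the cohomology of `M ⊗^L K`** is computed by `F ⊗ M` for a K-flat representative `F` -/
theorem key (K : DRing.Cx A) [DRing.HasLTensorCx A K] (F : DRing.Cx A)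
    (hF : DRing.IsKFlat A F) (e : DRing.toD F ≅ DRing.toD K) (M : ModuleCat.{u} A) (i : ℤ) :
    IsZero ((DerivedCategory.homologyFunctor (ModuleCat.{u} A) i).obj
        ((DRing.LTensorCx A K).obj (DRing.toD (S M)))) ↔
      IsZero (((TM M).obj F).homology i) := by
  have e1 : (DRing.LTensorCx A K).obj (DRing.toD (S M)) ≅
      DerivedCategory.Q.obj (res (S M) ⊗ K) :=
    (DRing.LTensorCx A K).mapIso (asIso (DerivedCategory.Q.map (resMap (S M)))).symm ≪≫
      ltIso A K (res (S M))
  rw [((DerivedCategory.homologyFunctor _ i).mapIso e1).isZero_iff, isZero_HD_Q_iff]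
  obtain ⟨g, hg⟩ := exists_Q_map_eq (res F) K (DerivedCategory.Q.map (resMap F) ≫ e.hom)
  haveI hgq : QuasiIso g := by
    rw [← DerivedCategory.isIso_Q_map_iff_quasiIso, hg]
    infer_instance
  have hP := isKFlat_res (S M)
  haveI := quasiIso_whiskerLeft hP g hgq
  haveI := quasiIso_whiskerLeft hP (resMap F) inferInstance
  haveI := quasiIso_whiskerRight hF (resMap (S M)) inferInstance
  rw [← isZero_homology_iff_of_quasiIso (res (S M) ◁ g) i,
    isZero_homology_iff_of_quasiIso (res (S M) ◁ resMap F) i,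
    isZero_homology_iff_of_quasiIso (resMap (S M) ▷ F) i]
  exact ((HomologicalComplex.homologyFunctor _ _ i).mapIso
    (DTen.braidCx (S M) F ≪≫ (tensorConcIso F (S M) (isZero_S_X M) (SXIso M)).symm)).isZero_iff

end Groth.Agent.Lib.Helper5.KSixLT
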