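import Mathlib

set_option autoImplicit false
universe u
open TensorProduct

namespace Groth.Agent.Lib.Helper5.KSixFp

variable {R : Type u} [CommRing R]
variable {A B C : Type u} [AddCommGroup A] [Module R A] [AddCommGroup B] [Module R B]
  [AddCommGroup C] [Module R C]

theorem rTensor_comm {N P : Type u} [AddCommGroup N] [Module R N] [AddCommGroup P] [Module R P]
    (f : N →ₗ[R] P) (x : C ⊗[R] N) :
    f.rTensor C (TensorProduct.comm R C N x) = TensorProduct.comm R C P (f.lTensor C x) := by
  induction x using TensorProduct.induction_on with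
  | zero => simp
  | tmul c n => simp
  | add a b ha hb => simp only [map_add, ha, hb]

/-- zero detection at a finite stage, submodule on the right -/
theorem exists_fg_lTensor_inclusion_eq_zero {P : Type u} [AddCommGroup P] [Module R P]
    {N : Submodule R P} (hN : N.FG) (x : C ⊗[R] N) (hx : (N.subtype.lTensor C) x = 0) :
    ∃ N' : Submodule R P, N'.FG ∧ ∃ h : N ≤ N', ((Submodule.inclusion h).lTensor C) x = 0 := by
  have h1 : N.subtype.rTensor C (TensorProduct.comm R C N x) = N.subtype.rTensor C 0 := by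
    rw [map_zero, rTensor_comm, hx, map_zero]
  obtain ⟨N', hN', h, e⟩ := hN.exists_rTensor_fg_inclusion_eq h1
  refine ⟨N', hN', h, ?_⟩
  rw [map_zero, rTensor_comm] at e
  exact (TensorProduct.comm R C N').injective (by rw [e, map_zero])

/-- exactness of `A ⊗ M → B ⊗ M → C ⊗ M` for finitely presented `M` implies it for finite `M` -/
theorem exact_rTensor_of_finite (f : A →ₗ[R] B) (g : B →ₗ[R] C)
    (H : ∀ (M : Type u) [AddCommGroup M] [Module R M], Module.FinitePresentation R M →
      Function.Exact (f.rTensor M) (g.rTensor M))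
    (M : Type u) [AddCommGroup M] [Module R M] [Module.Finite R M] (z : B ⊗[R] M)
    (hz : g.rTensor M z = 0) : ∃ a : A ⊗[R] M, f.rTensor M a = z := by
  obtain ⟨n, π, hπ⟩ := Module.Finite.exists_fin' R M
  obtain ⟨z₂, rfl⟩ := LinearMap.lTensor_surjective B hπ z
  have hex : Function.Exact ((LinearMap.ker π).subtype.lTensor C) (π.lTensor C) :=
    lTensor_exact C (LinearMap.exact_subtype_ker_map π) hπ
  have hw : π.lTensor C (g.rTensor (Fin n → R) z₂) = 0 := by
    rw [← LinearMap.comp_apply, LinearMap.lTensor_comp_rTensor, ← LinearMap.rTensor_comp_lTensor,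
      LinearMap.comp_apply]
    exact hz
  obtain ⟨v, hv⟩ := (hex _).1 hw
  obtain ⟨N', hN', hvN'⟩ := TensorProduct.exists_finite_submodule_right_of_setFinite {v}
    (Set.finite_singleton v)
  obtain ⟨v', hv'⟩ := hvN' (Set.mem_singleton v)
  let N'' : Submodule R (Fin n → R) := N'.map (LinearMap.ker π).subtype
  have hN''fg : N''.FG := (Module.Finite.iff_fg.1 hN').map _
  have hle : N'' ≤ LinearMap.ker π := by
    rintro _ ⟨y, -, rfl⟩
    exact y.2
  have hfp : Module.FinitePresentation R ((Fin n → R) ⧸ N'') :=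
    Module.finitePresentation_of_free_of_surjective N''.mkQ (Submodule.mkQ_surjective _)
      (by rw [Submodule.ker_mkQ]; exact hN''fg)
  let φ : ((Fin n → R) ⧸ N'') →ₗ[R] M := N''.liftQ π hle
  have hφ : φ ∘ₗ N''.mkQ = π := Submodule.liftQ_mkQ _ _ _
  have hzero : (N''.mkQ ∘ₗ (LinearMap.ker π).subtype) ∘ₗ N'.subtype = 0 := by
    ext y
    simp only [LinearMap.comp_apply, Submodule.subtype_apply, Submodule.mkQ_apply,
      LinearMap.zero_apply, Submodule.Quotient.mk_eq_zero]
    exact ⟨y.1, y.2, rfl⟩
  have hcyc : g.rTensor _ (N''.mkQ.lTensor B z₂) = 0 := by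
    rw [← LinearMap.comp_apply, LinearMap.rTensor_comp_lTensor, ← LinearMap.lTensor_comp_rTensor,
      LinearMap.comp_apply, ← hv, ← hv', ← LinearMap.comp_apply, ← LinearMap.comp_apply,
      ← LinearMap.lTensor_comp, ← LinearMap.lTensor_comp, hzero, LinearMap.lTensor_zero,
      LinearMap.zero_apply]
  obtain ⟨a, ha⟩ := ((H _ hfp) _).1 hcyc
  refine ⟨φ.lTensor A a, ?_⟩
  rw [← LinearMap.comp_apply, LinearMap.rTensor_comp_lTensor, ← LinearMap.lTensor_comp_rTensor,
    LinearMap.comp_apply, ha, ← LinearMap.comp_apply, ← LinearMap.lTensor_comp, hφ]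

/-- exactness of `A ⊗ M → B ⊗ M → C ⊗ M` for finitely presented `M` implies it for all `M` -/
theorem exact_rTensor_of_fp (f : A →ₗ[R] B) (g : B →ₗ[R] C) (hgf : g ∘ₗ f = 0)
    (H : ∀ (M : Type u) [AddCommGroup M] [Module R M], Module.FinitePresentation R M →
      Function.Exact (f.rTensor M) (g.rTensor M))
    (M : Type u) [AddCommGroup M] [Module R M] :
    Function.Exact (f.rTensor M) (g.rTensor M) := by
  intro z
  constructor
  · intro hz
    obtain ⟨M', hM', hzM'⟩ := TensorProduct.exists_finite_submodule_right_of_setFinite {z}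
      (Set.finite_singleton z)
    obtain ⟨z', rfl⟩ := hzM' (Set.mem_singleton z)
    have hy : M'.subtype.lTensor C (g.rTensor M' z') = 0 := by
      rw [← LinearMap.comp_apply, LinearMap.lTensor_comp_rTensor, ← LinearMap.rTensor_comp_lTensor,
        LinearMap.comp_apply]
      exact hz
    obtain ⟨M'', hM''fg, hle, hy'⟩ :=
      exists_fg_lTensor_inclusion_eq_zero (Module.Finite.iff_fg.1 hM') _ hy
    haveI : Module.Finite R M'' := Module.Finite.iff_fg.2 hM''fg
    have hcyc : g.rTensor M'' ((Submodule.inclusion hle).lTensor B z') = 0 := by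
      rw [← LinearMap.comp_apply, LinearMap.rTensor_comp_lTensor, ← LinearMap.lTensor_comp_rTensor,
        LinearMap.comp_apply]
      exact hy'
    obtain ⟨a, ha⟩ := exact_rTensor_of_finite f g H M'' _ hcyc
    refine ⟨M''.subtype.lTensor A a, ?_⟩
    rw [← LinearMap.comp_apply, LinearMap.rTensor_comp_lTensor, ← LinearMap.lTensor_comp_rTensor,
      LinearMap.comp_apply, ha, ← LinearMap.comp_apply, ← LinearMap.lTensor_comp]
    rfl
  · rintro ⟨a, rfl⟩
    rw [← LinearMap.comp_apply, ← LinearMap.rTensor_comp, hgf, LinearMap.rTensor_zero,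
      LinearMap.zero_apply]

end Groth.Agent.Lib.Helper5.KSixFp
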