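import Mathlib
import Groth.Agent.Lib.Helper5.KFlat.Bdd
import Groth.Agent.Lib.Helper5.KFlat.Symm
import Groth.Agent.Lib.Helper5.TorAmp.FlatAcyc
import Groth.Agent.Lib.Helper5.Misc.TruncLEColim
import Groth.Agent.Lib.Helper5.KSix.FpExact

set_option autoImplicit false
set_option linter.unusedSectionVars false
set_option linter.unusedVariables false
set_option linter.style.haveILetI false
universe u
open CategoryTheory CategoryTheory.Limits MonoidalCategory

namespace Groth.Agent.Lib.Helper5.KSixPure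

open Groth.Agent.Lib.Helper5.Misc.KFlatGen Groth.Agent.Lib.Helper5.Misc.StupidTrunc
open Groth.Agent.Lib.Helper5.KFlat Groth.Agent.Helper5.FlatAcyc

section Gen
variable {C D : Type*} [Category C] [Category D] [Abelian C] [Abelian D]

lemma shortExact_map_of_isZero (S : ShortComplex C) (hS : S.ShortExact)
    (h : IsZero S.X₁ ∨ IsZero S.X₃) (G : C ⥤ D) [G.Additive] : (S.map G).ShortExact := by
  rcases h with h | h
  · exact ((ShortComplex.Splitting.ofIsZeroOfIsIso S h (hS.isIso_g_iff.2 h)).map G).shortExact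
  · exact ((ShortComplex.Splitting.ofIsIsoOfIsZero S (hS.isIso_f_iff.2 h) h).map G).shortExact

end Gen

variable {R : Type u} [CommRing R] (K : DRing.Cx R)

/-- the class of complexes `L` with `K ⊗ L` acyclic -/
def P (L : DRing.Cx R) : Prop := Acyc (K ⊗ L)

variable {K}

theorem P_concentrated (hK : ∀ (M : ModuleCat.{u} R) (i : ℤ), ((TM M).obj K).ExactAt i)
    (Q : DRing.Cx R) (a : ℤ) (hz : ∀ n, n ≠ a → IsZero (Q.X n)) : P K Q := by
  intro n
  refine acyclic_concentrated (T R) K Q a hz (fun p => ?_) n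
  exact (((TM (Q.X a)).obj K).exactAt_iff' (p - 1) p (p + 1) (by simp) (by simp)).1 (hK (Q.X a) p)

theorem P_ses (S : ShortComplex (DRing.Cx R))
    (hS : ∀ p q : ℤ, ((S.map (HomologicalComplex.eval _ _ q)).map ((T R).obj (K.X p))).ShortExact)
    (h1 : P K S.X₁) (h3 : P K S.X₃) : P K S.X₂ := by
  obtain ⟨z, hz⟩ := shortExact_tot (T R) K S hS
  intro i
  exact acyclic_X₂ hz h1 h3 i

theorem P_sigmaGE (hK : ∀ (M : ModuleCat.{u} R) (i : ℤ), ((TM M).obj K).ExactAt i)
    (L : DRing.Cx R) (b : ℤ) [L.IsStrictlyLE b] (m : ℕ) : P K (sigmaGE L (b - m)) := by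
  induction m with
  | zero =>
    refine P_concentrated hK _ (b - (0 : ℕ)) (fun n hn => ?_)
    by_cases h : b - ((0 : ℕ) : ℤ) ≤ n
    · have hn' : b < n := by
        have : b - ((0 : ℕ) : ℤ) = b := by simp
        omega
      exact IsZero.of_iso (L.isZero_of_isStrictlyLE b n hn')
        (@asIso _ _ _ _ (tι L (b - ((0 : ℕ) : ℤ)) n) (isIso_tι L h))
    · exact isZero_tX L h
  | succ m ih =>
    have e : b - ((m + 1 : ℕ) : ℤ) + 1 = b - (m : ℤ) := by push_cast; ring
    have hQ : P K (quotSC L (b - ((m + 1 : ℕ) : ℤ))).X₃ :=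
      P_concentrated hK _ (b - ((m + 1 : ℕ) : ℤ)) (fun n hn => isZero_quotSC_X₃ L _ n hn)
    have h1 : P K (quotSC L (b - ((m + 1 : ℕ) : ℤ))).X₁ := by
      show P K (sigmaGE L (b - ((m + 1 : ℕ) : ℤ) + 1))
      rw [e]
      exact ih
    refine P_ses (quotSC L (b - ((m + 1 : ℕ) : ℤ))) (fun p q => ?_) h1 hQ
    refine shortExact_map_of_isZero _ (quotSC_degree L _ q) ?_ _
    by_cases hq : q = b - ((m + 1 : ℕ) : ℤ)
    · left
      subst hq
      exact isZero_tX L (by omega)
    · right
      exact isZero_quotSC_X₃ L _ q hq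

theorem P_bounded_above (hK : ∀ (M : ModuleCat.{u} R) (i : ℤ), ((TM M).obj K).ExactAt i)
    (L : DRing.Cx R) (b : ℤ) (hb : ∀ i : ℤ, b < i → IsZero (L.X i)) : P K L := by
  haveI : L.IsStrictlyLE b := (CochainComplex.isStrictlyLE_iff L b).2 hb
  intro i
  exact acyclic_of_isColimit (seq L b ⋙ tensorLeft K) ((tensorLeft K).mapCocone (seqCocone L b))
    (isColimitTot (T R) K (seqCocone L b) (seqIsColimit L b))
    (fun j i => P_sigmaGE hK L b j i) i

open Groth.Agent.Lib.Helper5.Misc.TruncLEColim in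
theorem P_all (hK : ∀ (M : ModuleCat.{u} R) (i : ℤ), ((TM M).obj K).ExactAt i)
    (L : DRing.Cx R) : P K L := by
  intro i
  exact acyclic_of_isColimit (seqLE L ⋙ tensorLeft K) ((tensorLeft K).mapCocone (seqLECocone L))
    (isColimitTot (T R) K (seqLECocone L) (seqLEIsColimit L))
    (fun j i => P_bounded_above hK ((seqLE L).obj j) j
      (fun i hi => ((seqLE L).obj j).isZero_of_isStrictlyLE j i hi) i) i

/-- from finitely presented modules to all modules -/
theorem exactAt_all
    (hK : ∀ (M : Type u) [AddCommGroup M] [Module R M], Module.FinitePresentation R M →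
      (∀ i : ℤ, IsZero ((DRing.tensorCx K (ModuleCat.of R M)).homology i)))
    (M : ModuleCat.{u} R) (i : ℤ) : ((TM M).obj K).ExactAt i := by
  refine exactAt_of_exact _ (i - 1) i (i + 1) (by omega) rfl ?_
  refine Groth.Agent.Lib.Helper5.KSixFp.exact_rTensor_of_fp (K.d (i - 1) i).hom (K.d i (i + 1)).hom
    ?_ (fun N _ _ hN => ?_) M
  · rw [← ModuleCat.hom_comp, K.d_comp_d]
    rfl
  · have h := (HomologicalComplex.exactAt_iff_isZero_homology _ _).2 (hK N hN i)
    exact exact_of_exactAt ((TM (ModuleCat.of R N)).obj K) (i - 1) i (i + 1) (by omega) rfl h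

/-- **S6904**: a complex which is universally acyclic on finitely presented modules is K-flat -/
theorem isKFlat_of_fp
    (hK : ∀ (M : Type u) [AddCommGroup M] [Module R M], Module.FinitePresentation R M →
      (∀ i : ℤ, IsZero ((DRing.tensorCx K (ModuleCat.of R M)).homology i)))
    (L : DRing.Cx R) (i : ℤ) : IsZero ((L ⊗ K).homology i) :=
  acyclic_of_iso (DTen.braidCx K L) (P_all (exactAt_all hK) L) i

end Groth.Agent.Lib.Helper5.KSixPure
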