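import Mathlib
import Groth.Agent.Lib.Helper5.KSix.PureAcyc
import Groth.Agent.Lib.Helper5.KSix.LTCx

set_option autoImplicit false
set_option linter.unusedSectionVars false
set_option linter.unusedVariables false
set_option linter.style.haveILetI false
universe u
open CategoryTheory CategoryTheory.Limits MonoidalCategory Pretriangulated
attribute [local instance] HasDerivedCategory.standard

namespace Groth.Agent.Lib.Helper5.KSixThick

open Groth.Agent.Lib.Helper5.Misc.KFlatGen Groth.Agent.Lib.Helper5.Misc.StupidTrunc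
open Groth.Agent.Lib.Helper5.KFlat Groth.Agent.Lib.Helper5.KSixPure

section Tri
variable {C : Type*} [Category C] [HasZeroObject C] [HasShift C ℤ] [Preadditive C]
  [∀ n : ℤ, (shiftFunctor C n).Additive] [Pretriangulated C]
  (Pr : ObjectProperty C) [Pr.IsTriangulated] [Pr.IsClosedUnderIsomorphisms]

/-- a triangulated subcategory closed under direct summands is closed under retracts -/
theorem prop_of_retract (hsum : ∀ X Y : C, Pr (X ⊞ Y) → Pr X) {X Z : C} (i : X ⟶ Z) (p : Z ⟶ X)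
    (hip : i ≫ p = 𝟙 X) (hZ : Pr Z) : Pr X := by
  obtain ⟨Y, g, h, hT⟩ := distinguished_cocone_triangle i
  have hz : h = 0 := by
    have h1 : h ≫ i⟦(1 : ℤ)⟧' = 0 := comp_distTriang_mor_zero₃₁ _ hT
    have h2 : i⟦(1 : ℤ)⟧' ≫ p⟦(1 : ℤ)⟧' = 𝟙 _ := by
      rw [← Functor.map_comp, hip, CategoryTheory.Functor.map_id]
    calc h = h ≫ (i⟦(1 : ℤ)⟧' ≫ p⟦(1 : ℤ)⟧') := by rw [h2, Category.comp_id]
      _ = 0 := by rw [← Category.assoc, h1, zero_comp]
  obtain ⟨e, -, -⟩ := exists_iso_binaryBiproduct_of_distTriang _ hT hz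
  exact hsum X Y (Pr.prop_of_iso e hZ)

end Tri

variable {A : Type u} [CommRing A] (P : DRing.Cx A)

/-- the functor `E ↦ P ⊗ E` into the derived category -/
noncomputable abbrev Φ : DRing.Cx A ⥤ Dual.D A := tensorLeft P ⋙ DerivedCategory.Q

variable (Pr : ObjectProperty (Dual.D A)) [Pr.IsTriangulated] [Pr.IsClosedUnderIsomorphisms]

/-- the class of complexes `E` with `P ⊗ E ∈ Pr` -/
def Cls (E : DRing.Cx A) : Prop := Pr ((Φ P).obj E)

variable {P Pr}

theorem cls_of_iso {E E' : DRing.Cx A} (e : E ≅ E') (h : Cls P Pr E) : Cls P Pr E' :=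
  Pr.prop_of_iso ((Φ P).mapIso e) h

theorem cls_of_retract (hsum : ∀ X Y : Dual.D A, Pr (X ⊞ Y) → Pr X) {E E' : DRing.Cx A}
    (r : E ⟶ E') (s : E' ⟶ E) (hrs : r ≫ s = 𝟙 E) (h : Cls P Pr E') : Cls P Pr E :=
  prop_of_retract Pr hsum ((Φ P).map r) ((Φ P).map s)
    (by rw [← Functor.map_comp, hrs, CategoryTheory.Functor.map_id]) h

theorem cls_ses (S : ShortComplex (DRing.Cx A))
    (hS : ∀ p q : ℤ, ((S.map (HomologicalComplex.eval _ _ q)).map ((T A).obj (P.X p))).ShortExact)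
    (h1 : Cls P Pr S.X₁) (h3 : Cls P Pr S.X₃) : Cls P Pr S.X₂ := by
  obtain ⟨z, hz⟩ := shortExact_tot (T A) P S hS
  exact Pr.ext_of_isTriangulatedClosed₂ _ (DerivedCategory.triangleOfSES_distinguished hz) h1 h3

theorem cls_split (S : ShortComplex (DRing.Cx A)) (σ : S.Splitting)
    (h1 : Cls P Pr S.X₁) (h3 : Cls P Pr S.X₃) : Cls P Pr S.X₂ :=
  cls_ses S (fun p q => ((σ.map (HomologicalComplex.eval _ _ q)).map ((T A).obj (P.X p))).shortExact)
    h1 h3

theorem cls_shift (E : DRing.Cx A) (y : ℤ) (h : Cls P Pr E) : Cls P Pr (E⟦y⟧) := by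
  have e : (Φ P).obj (E⟦y⟧) ≅ ((Φ P).obj E)⟦y⟧ :=
    DerivedCategory.Q.mapIso (CochainComplex.mapBifunctorShift₂Iso P E (T A) y) ≪≫
      (DerivedCategory.Q.commShiftIso y).app _
  exact Pr.prop_of_iso e.symm (Pr.le_shift y _ h)

theorem cls_unit (h : Pr (DerivedCategory.Q.obj P)) : Cls P Pr (𝟙_ (DRing.Cx A)) :=
  Pr.prop_of_iso (DerivedCategory.Q.mapIso (ρ_ P)).symm h

variable (P Pr) in
/-- the class of modules `N` with `P ⊗ N[0] ∈ Pr` -/
def ClsM (N : ModuleCat.{u} A) : Prop :=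
  Cls P Pr ((CochainComplex.singleFunctor (ModuleCat.{u} A) 0).obj N)

theorem clsM_of_iso {N N' : ModuleCat.{u} A} (e : N ≅ N') (h : ClsM P Pr N) : ClsM P Pr N' :=
  cls_of_iso ((CochainComplex.singleFunctor (ModuleCat.{u} A) 0).mapIso e) h

theorem clsM_of_retract (hsum : ∀ X Y : Dual.D A, Pr (X ⊞ Y) → Pr X) {N N' : ModuleCat.{u} A}
    (r : N ⟶ N') (s : N' ⟶ N) (hrs : r ≫ s = 𝟙 N) (h : ClsM P Pr N') : ClsM P Pr N :=
  cls_of_retract hsum ((CochainComplex.singleFunctor (ModuleCat.{u} A) 0).map r)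
    ((CochainComplex.singleFunctor (ModuleCat.{u} A) 0).map s)
    (by rw [← Functor.map_comp, hrs, CategoryTheory.Functor.map_id]) h

theorem clsM_biprod (N N' : ModuleCat.{u} A) (h : ClsM P Pr N) (h' : ClsM P Pr N') :
    ClsM P Pr (N ⊞ N') := by
  let S' : ShortComplex (ModuleCat.{u} A) :=
    ShortComplex.mk (biprod.inl : N ⟶ N ⊞ N') (biprod.snd : N ⊞ N' ⟶ N') (by simp)
  let σ' : S'.Splitting := ShortComplex.Splitting.ofHasBinaryBiproduct N N'
  exact cls_split (S'.map (CochainComplex.singleFunctor (ModuleCat.{u} A) 0))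
    (σ'.map (CochainComplex.singleFunctor (ModuleCat.{u} A) 0)) h h'

theorem clsM_unit (h : Pr (DerivedCategory.Q.obj P)) : ClsM P Pr (𝟙_ (ModuleCat.{u} A)) :=
  cls_unit h

theorem clsM_of_isZero (hsum : ∀ X Y : Dual.D A, Pr (X ⊞ Y) → Pr X)
    (h : Pr (DerivedCategory.Q.obj P)) (N : ModuleCat.{u} A) (hN : IsZero N) : ClsM P Pr N :=
  clsM_of_retract hsum (0 : N ⟶ 𝟙_ (ModuleCat.{u} A)) 0 (hN.eq_of_src _ _) (clsM_unit h)

theorem clsM_free (hsum : ∀ X Y : Dual.D A, Pr (X ⊞ Y) → Pr X)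
    (h : Pr (DerivedCategory.Q.obj P)) (n : ℕ) : ClsM P Pr (ModuleCat.of A (Fin n → A)) := by
  induction n with
  | zero =>
    exact clsM_of_isZero hsum h _ (ModuleCat.isZero_of_subsingleton _)
  | succ n ih =>
    have e : ModuleCat.of A (Fin (n + 1) → A) ≅ ModuleCat.of A A ⊞ ModuleCat.of A (Fin n → A) :=
      (Fin.consLinearEquiv A (fun _ : Fin (n + 1) => A)).symm.toModuleIso ≪≫
        (ModuleCat.biprodIsoProd (ModuleCat.of A A) (ModuleCat.of A (Fin n → A))).symm
    exact clsM_of_iso e.symm (clsM_biprod _ _ (clsM_unit h) ih)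

theorem clsM_of_finite_projective (hsum : ∀ X Y : Dual.D A, Pr (X ⊞ Y) → Pr X)
    (h : Pr (DerivedCategory.Q.obj P)) (N : ModuleCat.{u} A) [Module.Finite A N]
    [Module.Projective A N] : ClsM P Pr N := by
  obtain ⟨n, π, hπ⟩ := Module.Finite.exists_fin' A N
  obtain ⟨s, hs⟩ := Module.projective_lifting_property π LinearMap.id hπ
  refine clsM_of_retract hsum (ModuleCat.ofHom s) (ModuleCat.ofHom π) ?_ (clsM_free hsum h n)
  rw [← ModuleCat.ofHom_comp, hs]
  rfl

/-! ### complexes -/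

theorem cls_single (N : ModuleCat.{u} A) (a : ℤ) (h : ClsM P Pr N) :
    Cls P Pr ((CochainComplex.singleFunctor (ModuleCat.{u} A) a).obj N) :=
  cls_of_iso (((CochainComplex.singleFunctors (ModuleCat.{u} A)).shiftIso (-a) a 0 (by omega)).app N)
    (cls_shift _ (-a) h)

theorem cls_concentrated (Q : DRing.Cx A) (a : ℤ) (hz : ∀ n, n ≠ a → IsZero (Q.X n))
    (h : ClsM P Pr (Q.X a)) : Cls P Pr Q := by
  haveI : Q.IsStrictlyGE a := (CochainComplex.isStrictlyGE_iff Q a).2 (fun i hi => hz i (by omega))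
  haveI : Q.IsStrictlyLE a := (CochainComplex.isStrictlyLE_iff Q a).2 (fun i hi => hz i (by omega))
  obtain ⟨M, ⟨e⟩⟩ := CochainComplex.exists_iso_single Q a
  have eM : Q.X a ≅ M := (HomologicalComplex.eval _ _ a).mapIso e ≪≫
    HomologicalComplex.singleObjXSelf (ComplexShape.up ℤ) a M
  exact cls_of_iso e.symm (cls_single M a (clsM_of_iso eM h))

theorem cls_sigmaGE (E : DRing.Cx A) (b : ℤ) [E.IsStrictlyLE b] (hN : ∀ i, ClsM P Pr (E.X i))
    (m : ℕ) : Cls P Pr (sigmaGE E (b - m)) := by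
  induction m with
  | zero =>
    have hb : b - ((0 : ℕ) : ℤ) ≤ b := by simp
    refine cls_concentrated _ b (fun n hn => ?_)
      (clsM_of_iso (@asIso _ _ _ _ (tι E (b - ((0 : ℕ) : ℤ)) b) (isIso_tι E hb)).symm (hN b))
    by_cases h : b - ((0 : ℕ) : ℤ) ≤ n
    · have hn' : b < n := by
        have : b - ((0 : ℕ) : ℤ) = b := by simp
        omega
      exact IsZero.of_iso (E.isZero_of_isStrictlyLE b n hn')
        (@asIso _ _ _ _ (tι E (b - ((0 : ℕ) : ℤ)) n) (isIso_tι E h))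
    · exact isZero_tX E h
  | succ m ih =>
    have e : b - ((m + 1 : ℕ) : ℤ) + 1 = b - (m : ℤ) := by push_cast; ring
    have hQ : Cls P Pr (quotSC E (b - ((m + 1 : ℕ) : ℤ))).X₃ :=
      cls_concentrated _ (b - ((m + 1 : ℕ) : ℤ)) (fun n hn => isZero_quotSC_X₃ E _ n hn)
        (clsM_of_iso (quotSCX₃Iso E _).symm (hN _))
    have h1 : Cls P Pr (quotSC E (b - ((m + 1 : ℕ) : ℤ))).X₁ := by
      show Cls P Pr (sigmaGE E (b - ((m + 1 : ℕ) : ℤ) + 1))
      rw [e]
      exact ih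
    refine cls_ses (quotSC E (b - ((m + 1 : ℕ) : ℤ))) (fun p q => ?_) h1 hQ
    refine shortExact_map_of_isZero _ (quotSC_degree E _ q) ?_ _
    by_cases hq : q = b - ((m + 1 : ℕ) : ℤ)
    · left
      subst hq
      exact isZero_tX E (by omega)
    · right
      exact isZero_quotSC_X₃ E _ q hq

theorem isIso_ιGE (E : DRing.Cx A) (c : ℤ) (h : ∀ i, i < c → IsZero (E.X i)) :
    IsIso (ιGE E c) := by
  haveI : ∀ n, IsIso ((ιGE E c).f n) := by
    intro n
    show IsIso (tι E c n)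
    by_cases hn : c ≤ n
    · exact isIso_tι E hn
    · exact ⟨0, (isZero_tX E hn).eq_of_src _ _, (h n (by omega)).eq_of_src _ _⟩
  exact HomologicalComplex.Hom.isIso_of_components _

/-- **bounded complexes with terms in the class** -/
theorem cls_bounded (E : DRing.Cx A) (a b : ℤ) (hE : DRing.VanishesOutside E a b)
    (hN : ∀ i, ClsM P Pr (E.X i)) : Cls P Pr E := by
  haveI : E.IsStrictlyLE b :=
    (CochainComplex.isStrictlyLE_iff E b).2 (fun i hi => hE i (Or.inr hi))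
  have h1 := cls_sigmaGE (P := P) (Pr := Pr) E b hN (b - a).toNat
  have hc : b - ((b - a).toNat : ℤ) ≤ a := by
    have := Int.self_le_toNat (b - a)
    omega
  haveI := isIso_ιGE E (b - ((b - a).toNat : ℤ)) (fun i hi => hE i (Or.inl (by omega)))
  exact cls_of_iso (asIso (ιGE E (b - ((b - a).toNat : ℤ)))) h1

open Groth.Agent.Lib.Helper5.KProj Groth.Agent.Lib.Helper5.KSixLT in
/-- **a thick subcategory is stable under `- ⊗^L E` for bounded complexes `E` of finite projective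
modules** -/
theorem ltensor_mem (Pr : ObjectProperty (Dual.D A)) [Pr.IsTriangulated]
    [Pr.IsClosedUnderIsomorphisms] (hsum : ∀ X Y : Dual.D A, Pr (X ⊞ Y) → Pr X)
    (E : DRing.Cx A) (a b : ℤ) (hEb : DRing.VanishesOutside E a b)
    (hEp : DRing.TermwiseFiniteProjective E) [DRing.HasLTensorCx A E] (M : Dual.D A) (hM : Pr M) :
    Pr ((DRing.LTensorCx A E).obj M) := by
  let M₀ : DRing.Cx A := DerivedCategory.Q.objPreimage M
  let eM : DerivedCategory.Q.obj M₀ ≅ M := DerivedCategory.Q.objObjPreimageIso M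
  have eP : DerivedCategory.Q.obj (res M₀) ≅ M := asIso (DerivedCategory.Q.map (resMap M₀)) ≪≫ eM
  have hP : Pr (DerivedCategory.Q.obj (res M₀)) := Pr.prop_of_iso eP.symm hM
  have hcls : Cls (res M₀) Pr E := cls_bounded E a b hEb (fun i => by
    haveI := (hEp i).1
    haveI := (hEp i).2
    exact clsM_of_finite_projective hsum hP (E.X i))
  exact Pr.prop_of_iso ((ltIso A E (res M₀)).symm ≪≫ (DRing.LTensorCx A E).mapIso eP) hcls

end Groth.Agent.Lib.Helper5.KSixThick
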