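import Mathlib
import Groth.Agent.Lib.Helper5.TorAmp.BaseChange

/-!
# Descent of tor amplitude along a jointly faithful family of flat algebras (helper5)
-/
set_option autoImplicit false
set_option linter.unusedSectionVars false
set_option linter.unusedVariables false
universe u
open CategoryTheory CategoryTheory.Limits DerivedCategory HomologicalComplex
attribute [local instance] HasDerivedCategory.standard

namespace Groth.Agent.Lib.Helper5.KSixFam

open Groth.Agent.Helper5.FlatBC Groth.Agent.Helper5.TorAmp Groth.Agent.Helper5.FlatAcyc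

variable {R : Type u} [CommRing R] {T : Type*} (R' : T → Type u) [∀ t, CommRing (R' t)]
  [∀ t, Algebra R (R' t)] [∀ t, Module.Flat R (R' t)]
  (hJ : ∀ N : ModuleCat.{u} R, (∀ t, IsZero ((Ef (R' t)).obj N)) → IsZero N)

include hJ

theorem exactAt_of_family (X : DRing.Cx R) (i : ℤ)
    (h : ∀ t, ((Ec (R' t)).obj X).ExactAt i) : X.ExactAt i := by
  rw [exactAt_iff_isZero_homology]
  apply hJ
  intro t
  have h1 := h t
  rw [exactAt_iff_isZero_homology] at h1
  exact h1.of_iso (homIso (R' t) X i).symm

theorem torVan_of_family (P : DRing.Cx R) (a b : ℤ)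
    (h : ∀ t, TorVan a b ((Ec (R' t)).obj P)) : TorVan a b P := by
  intro M i hi
  exact exactAt_of_family R' hJ _ i
    (fun t => (h t ((Ef (R' t)).obj M) i hi).of_iso (tmIso (R' t) M P))

/-- **descent of tor amplitude along a jointly faithful family of flat algebras** -/
theorem hasTorAmplitudeIn_of_family (K : DRing.Cx R) (a b : ℤ)
    (hK : ∀ t, DRing.HasTorAmplitudeIn (R' t) a b (DRing.toD ((Ec (R' t)).obj K))) :
    DRing.HasTorAmplitudeIn R a b (DRing.toD K) := by
  have hle : (DRing.toD K).IsLE b := by
    rw [DerivedCategory.isLE_iff]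
    intro j hj
    refine IsZero.of_iso ?_ ((homologyFunctorFactors (ModuleCat.{u} R) j).app K)
    change IsZero (K.homology j)
    rw [← exactAt_iff_isZero_homology]
    apply exactAt_of_family R' hJ
    intro t
    have h1 := bounded_of_hasTorAmplitudeIn (hK t) j (Or.inr hj)
    rw [exactAt_iff_isZero_homology]
    have h3 : IsZero ((homologyFunctor (ModuleCat.{u} (R' t)) j).obj
        (DRing.toD ((Ec (R' t)).obj K))) := @ModuleCat.isZero_of_subsingleton _ _ _ h1
    exact h3.of_iso ((homologyFunctorFactors (ModuleCat.{u} (R' t)) j).app _).symm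
  obtain ⟨P, hPb, hproj, _, ⟨e⟩⟩ := exists_proj_rep (DRing.toD K) b
  have hflat : DRing.TermwiseFlat P := termwiseFlat_of_projective P hproj
  refine (hasTorAmplitudeIn_iff' P hflat b hPb e a b).2
    (torVan_of_family R' hJ P a b (fun t => ?_))
  have h2 : DRing.HasTorAmplitudeIn (R' t) a b (DRing.toD ((Ec (R' t)).obj P)) :=
    hasTorAmplitudeIn_of_iso (EcIso (R' t) e).symm (hK t)
  exact (hasTorAmplitudeIn_iff _ (Ec_flat (R' t) P hflat) b
    (fun i hi => (Ef (R' t)).map_isZero (hPb i hi)) a b).1 h2

end Groth.Agent.Lib.Helper5.KSixFam
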