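import Mathlib
import Groth.Agent.Lib.Helper5.KSix.TorFamily
import Groth.Agent.Lib.Helper5.KSix.FlatAmpStalk
import Groth.Agent.Lib.Helper5.StalkTen.TildeStalk
import Groth.Agent.Lib.Helper5.Stalk.Pull
import Groth.Agent.Lib.Helper5.Perf.PerfIff

/-!
# Tor amplitude of `M^~` on `Spec A` (helper5)
-/
set_option autoImplicit false
set_option linter.unusedSectionVars false
set_option linter.unusedVariables false
universe u
open CategoryTheory CategoryTheory.Limits AlgebraicGeometry HomologicalComplex
attribute [local instance] HasDerivedCategory.standard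

namespace Groth.Agent.Lib.Helper5.KSixTilde

open Groth.Agent.Lib.Helper5.StalkTot Groth.Agent.Lib.Helper5.StalkAdj
  Groth.Agent.Lib.Helper5.TildeStalk Groth.Agent.Lib.Helper5.KSixFlat
  Groth.Agent.Lib.Helper5.KSixFam
open Groth.Agent.Helper5.TorAmp Groth.Agent.Helper5.FlatBC

variable (R : CommRingCat.{u}) [PreservesFiniteLimits (tilde.functor R)]

/-- extension of scalars to a stalk of `Spec R` preserves monomorphisms -/
theorem preservesMono_extendScalars_phi (x : Spec (CommRingCat.of R)) :
    (ModuleCat.extendScalars.{u, u, u} (phi R x)).PreservesMonomorphisms := by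
  have : (tilde.functor R ⋙ stalkSh (Spec (CommRingCat.of R)) x).PreservesMonomorphisms :=
    inferInstance
  exact Functor.PreservesMonomorphisms.of_iso (tildeStalkIso R x)

/-- the stalks of `Spec R` are flat over `R` -/
theorem flat_stalk (x : Spec (CommRingCat.of R)) :
    letI : Algebra R ((Spec (CommRingCat.of R)).presheaf.stalk x) := (phi R x).toAlgebra
    Module.Flat R ((Spec (CommRingCat.of R)).presheaf.stalk x) := by
  let _ : Algebra R ((Spec (CommRingCat.of R)).presheaf.stalk x) := (phi R x).toAlgebra
  rw [Module.Flat.iff_lTensor_preserves_injective_linearMap]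
  intro N N' _ _ _ _ f hf
  have := preservesMono_extendScalars_phi R x
  have hm : Mono (ModuleCat.ofHom f) := (ModuleCat.mono_iff_injective _).2 hf
  have h2 : Mono ((ModuleCat.extendScalars.{u, u, u} (phi R x)).map (ModuleCat.ofHom f)) :=
    inferInstance
  exact (ModuleCat.mono_iff_injective _).1 h2

/-- a module all of whose stalk base changes vanish is zero -/
theorem isZero_of_stalks_extend (N : ModuleCat.{u} R)
    (h : ∀ x : Spec (CommRingCat.of R),
      IsZero ((ModuleCat.extendScalars.{u, u, u} (phi R x)).obj N)) : IsZero N := by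
  have h1 : IsZero ((tilde.functor R).obj N) := by
    apply isZero_of_stalks
    intro x
    exact (h x).of_iso ((tildeStalkIso R x).app N)
  rw [IsZero.iff_id_eq_zero]
  apply (tilde.functor R).map_injective
  rw [CategoryTheory.Functor.map_id, CategoryTheory.Functor.map_zero]
  exact (IsZero.iff_id_eq_zero _).1 h1

/-- **the tor amplitude of `M^~`** -/
theorem hasFlatAmplitudeIn_tildeD_iff (M : DerivedCategory (ModuleCat.{u} R)) (a b : ℤ) :
    DCoh.HasFlatAmplitudeIn a b ((DCoh.tildeD R).obj M) ↔ DRing.HasTorAmplitudeIn R a b M := by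
  constructor
  · intro h
    obtain ⟨K, ⟨eK⟩⟩ : ∃ K : DRing.Cx R, Nonempty (DRing.toD K ≅ M) :=
      ⟨_, ⟨DerivedCategory.Q.objObjPreimageIso M⟩⟩
    have h' : DCoh.HasFlatAmplitudeIn a b (DCoh.toD (Spec (CommRingCat.of R))
        (((tilde.functor R).mapHomologicalComplex (ComplexShape.up ℤ)).obj K)) :=
      Groth.Agent.Lib.Helper5.PerfIff.hasFlatAmplitudeIn_of_iso
        ((DCoh.tildeD R).mapIso eK.symm ≪≫ (tilde.functor R).mapDerivedCategoryFactors.app K) h
    let _ : ∀ x : Spec (CommRingCat.of R),
        Algebra R ((Spec (CommRingCat.of R)).presheaf.stalk x) := fun x => (phi R x).toAlgebra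
    have : ∀ x : Spec (CommRingCat.of R),
        Module.Flat R ((Spec (CommRingCat.of R)).presheaf.stalk x) := fun x => flat_stalk R x
    refine hasTorAmplitudeIn_of_iso eK (hasTorAmplitudeIn_of_family
      (fun x : Spec (CommRingCat.of R) => (Spec (CommRingCat.of R)).presheaf.stalk x)
      (fun N hN => isZero_of_stalks_extend R N hN) K a b (fun x => ?_))
    exact hasTorAmplitudeIn_of_iso (DerivedCategory.Q.mapIso (stalkCxTildeIso R x K))
      (stalk_torAmplitude_of_hasFlatAmplitudeIn _ a b h' x)
  · rintro ⟨E, h1, h2, ⟨e⟩⟩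
    refine ⟨((tilde.functor R).mapHomologicalComplex (ComplexShape.up ℤ)).obj E,
      fun i hi => (tilde.functor R).map_isZero (h1 i hi), fun i x => ?_,
      ⟨((tilde.functor R).mapDerivedCategoryFactors.app E).symm ≪≫ (DCoh.tildeD R).mapIso e⟩⟩
    have := h2 i
    have h3 : Module.Flat ((Spec (CommRingCat.of R)).presheaf.stalk x)
        ((ModuleCat.extendScalars.{u, u, u} (phi R x)).obj (E.X i)) :=
      flat_extendScalars (phi R x) (E.X i)
    exact (Module.Flat.equiv_iff ((tildeStalkIso R x).app (E.X i)).toLinearEquiv).2 h3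

end Groth.Agent.Lib.Helper5.KSixTilde
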