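import Mathlib
import Groth.Agent.Lib.Helper5.TorAmp.PerfAmp
import Groth.Agent.Lib.Helper5.TorAmp.Tri
import Groth.Agent.Lib.Helper5.TorAmp.TorDim
import Groth.Agent.Lib.Helper5.KFlat.Bdd

/-!
# The bottom term of a flat complex with high tor amplitude is flat (helper5)
-/
set_option autoImplicit false
set_option linter.unusedSectionVars false
set_option linter.unusedVariables false
universe u
open CategoryTheory CategoryTheory.Limits Pretriangulated DerivedCategory
attribute [local instance] HasDerivedCategory.standard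

namespace Groth.Agent.Lib.Helper5.KSixPerf

open Groth.Agent.Helper5.TorAmp Groth.Agent.S2067 Groth.Agent.Lib.Helper5.KFlat

variable {R : Type u} [CommRing R]

/-- if `L` vanishes below `a` and above `c`, has flat terms above `a`, and has tor amplitude in
`[a₀, b₀]` with `a ≤ a₀`, then `L^a` is flat -/
theorem flat_bottom_term (L : DRing.Cx R) (a c : ℤ) (h1 : ∀ i, i < a → IsZero (L.X i))
    (h2 : ∀ i, c < i → IsZero (L.X i)) (hfl : ∀ i, a < i → Module.Flat R (L.X i))
    (a₀ b₀ : ℤ) (ha : a ≤ a₀) (hL : DRing.HasTorAmplitudeIn R a₀ b₀ (DRing.toD L)) :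
    Module.Flat R (L.X a) := by
  obtain ⟨T, hT, e1, e2, ⟨e3⟩⟩ := exists_trunc_triangle L a h1
  obtain ⟨B, hB1, hB2, hB3⟩ : ∃ B : ℤ, c ≤ B + 1 ∧ b₀ ≤ B ∧ a ≤ B :=
    ⟨max (max c b₀) a, by omega, by omega, by omega⟩
  have hT1 : DRing.HasTorAmplitudeIn R (a + 1) (B + 1) T.obj₁ := by
    rw [e1]
    refine ⟨trunc L (a + 1), ?_, ?_, ⟨Iso.refl _⟩⟩
    · rintro i (hi | hi)
      · exact trunc_isZero L (a + 1) i hi
      · have := truncι_isIso L (a + 1) i (by omega)
        exact (h2 i (by omega)).of_iso (asIso ((truncι L (a + 1)).f i))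
    · intro i
      by_cases hi : i < a + 1
      · exact flat_of_isZero (trunc_isZero L (a + 1) i hi)
      · have := truncι_isIso L (a + 1) i (by omega)
        exact flat_of_iso (asIso ((truncι L (a + 1)).f i)).symm (hfl i (by omega))
  have hT2 : DRing.HasTorAmplitudeIn R a B T.obj₂ := by
    rw [e2]
    exact hasTorAmplitudeIn_mono hL ha hB2
  have hT3 : DRing.HasTorAmplitudeIn R a B ((singleFunctor (ModuleCat.{u} R) a).obj (L.X a)) :=
    hasTorAmplitudeIn_of_iso e3 (hasTorAmplitudeIn_obj₃ T hT hT1 hT2)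
  have h4 : DRing.HasTorAmplitudeIn R 0 (B - a) ((singleFunctor (ModuleCat.{u} R) 0).obj (L.X a)) :=
    hasTorAmplitudeIn_of_iso
      (((singleFunctors (ModuleCat.{u} R)).shiftIso a 0 a (by omega)).app (L.X a))
      (hasTorAmplitudeIn_shift hT3 a 0 (B - a) (by omega) (by omega))
  exact flat_of_hasTorAmplitudeIn_single _ (hasTorAmplitudeIn_trim h4)

end Groth.Agent.Lib.Helper5.KSixPerf

namespace Groth.Agent.Lib.Helper5.KSixPerf

open Groth.Agent.Helper5.TorAmp Groth.Agent.Lib.Helper5.KFlat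

variable {R : Type u} [CommRing R]

/-- if a bounded above complex of flats `P` approximates `S` in degrees `≥ a`, `S` is exact below
`a` and has tor amplitude in `[a₀, b₀]` with `a ≤ a₀`, then `coker (P^{a-1} → P^a)` is flat -/
theorem flat_opcycles_of_approx (P S : DRing.Cx R) (β : P ⟶ S) (a c : ℤ)
    (hPc : ∀ i, c < i → IsZero (P.X i)) (hPfl : ∀ i, Module.Flat R (P.X i))
    (hβ : ∀ i, a ≤ i → QuasiIsoAt β i) [S.IsGE a] (a₀ b₀ : ℤ) (ha : a ≤ a₀)
    (hS : DRing.HasTorAmplitudeIn R a₀ b₀ (DRing.toD S)) :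
    Module.Flat R (P.opcycles a) := by
  have hq1 : QuasiIso (CochainComplex.truncGEMap β a) :=
    (CochainComplex.quasiIso_truncGEMap_iff β a).2 hβ
  have hq2 : QuasiIso (S.πTruncGE a) := inferInstance
  have i1 : IsIso (Q.map (CochainComplex.truncGEMap β a)) :=
    (isIso_Q_map_iff_quasiIso _ _).2 hq1
  have i2 : IsIso (Q.map (S.πTruncGE a)) := (isIso_Q_map_iff_quasiIso _ _).2 hq2
  have e : DRing.toD S ≅ DRing.toD (P.truncGE a) :=
    asIso (Q.map (S.πTruncGE a)) ≪≫ (asIso (Q.map (CochainComplex.truncGEMap β a))).symm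
  have hfl := flat_bottom_term (P.truncGE a) a (max c a)
    (fun i hi => (P.truncGE a).isZero_of_isStrictlyGE a i hi)
    (fun i hi => (hPc i (by omega)).of_iso (P.truncGEXIso a i (by omega)))
    (fun i hi => flat_of_iso (P.truncGEXIso a i hi).symm (hPfl i))
    a₀ b₀ ha (hasTorAmplitudeIn_of_iso e hS)
  exact flat_of_iso (P.truncGEXIsoOpcycles a) hfl

end Groth.Agent.Lib.Helper5.KSixPerf
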