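import Mathlib
import Groth.Agent.Lib.Helper5.KSix.RingBottom
import Groth.Agent.Lib.Helper5.KSix.FlatDescent
import Groth.Agent.Lib.Helper5.Perf.NearFLF
import Groth.Agent.Lib.Helper5.Perf.PerfIff
import Groth.Agent.Lib.Helper5.Stalk.FlatFree

/-!
# Pseudo-coherent complexes with a stalk of finite tor dimension are perfect nearby (helper5)
-/
set_option autoImplicit false
set_option linter.unusedSectionVars false
set_option linter.unusedVariables false
universe u
open CategoryTheory CategoryTheory.Limits AlgebraicGeometry HomologicalComplex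
attribute [local instance] HasDerivedCategory.standard

namespace Groth.Agent.Lib.Helper5.KSixPerf

open Groth.Agent.Lib.Helper5.StalkTot Groth.Agent.Lib.Helper5.StalkAdj
  Groth.Agent.Lib.Helper5.PerfTri Groth.Agent.Lib.Helper5.LocNull
  Groth.Agent.Lib.Helper5.NearFLF Groth.Agent.Lib.Helper5.KSixFlat
open Groth.Agent.Helper5.TorAmp

variable {U : Scheme.{u}}

/-- the stalk of `coker (K^{a-1} → K^a)` is `coker` of the stalks -/
noncomputable def stalkCokernelIso (K : CochainComplex U.Modules ℤ) (a : ℤ) (v : U) :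
    (stalkSh U v).obj (cokernel (K.d (a - 1) a)) ≅ (stalkCx U v K).opcycles a :=
  PreservesCokernel.iso (stalkSh U v) (K.d (a - 1) a) ≪≫
    (IsColimit.coconePointUniqueUpToIso
      ((stalkCx U v K).opcyclesIsCokernel (a - 1) a (by simp)) (colimit.isColimit _)).symm

/-- **Lemma A**: a complex `G`, exact below `a`, approximated in degrees `≥ a` by a strictly perfect
complex, and whose stalk at `v` has tor amplitude in `[a₀, b₀]` with `a ≤ a₀`, is represented by
a strictly perfect complex near `v`. -/
theorem exists_LPD_of_approx_stalk {K G : CochainComplex U.Modules ℤ}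
    (hK : DCoh.IsStrictlyPerfect K) (β : K ⟶ G) (a : ℤ) (hβ : ∀ i, a ≤ i → QuasiIsoAt β i)
    [G.IsGE a] (v : U) (a₀ b₀ : ℤ) (ha : a ≤ a₀)
    (hG : DRing.HasTorAmplitudeIn (U.presheaf.stalk v) a₀ b₀ (DRing.toD (stalkCx U v G))) :
    ∃ W : U.Opens, v ∈ W ∧ LPD W.ι (DCoh.toD U G) := by
  obtain ⟨⟨a', b', hab⟩, hflf⟩ := hK
  -- the stalk of the cokernel is flat
  have hS : (stalkCx U v G).IsGE a := by
    rw [CochainComplex.isGE_iff]
    intro i hi
    exact (G.exactAt_of_isGE a i hi).map (stalkSh U v)
  have hopc : Module.Flat (U.presheaf.stalk v) ((stalkCx U v K).opcycles a) :=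
    flat_opcycles_of_approx (stalkCx U v K) (stalkCx U v G)
      (((stalkSh U v).mapHomologicalComplex (ComplexShape.up ℤ)).map β) a b'
      (fun i hi => (stalkSh U v).map_isZero (hab i (Or.inr hi)))
      (fun i => flatMod_of_isFinLocFree _ (hflf i) v)
      (fun i hi => by
        have := hβ i hi
        infer_instance) a₀ b₀ ha hG
  have hfl : FlatMod.IsFlatAt (cokernel (K.d (a - 1) a)) v :=
    (Module.Flat.equiv_iff (stalkCokernelIso K a v).toLinearEquiv).2 hopc
  obtain ⟨W, -, hvW, hW⟩ := exists_flf_cokernel (K.d (a - 1) a) ⊤ v trivial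
    (isFinLocFree_restrict _ _ (hflf _)) (isFinLocFree_restrict _ _ (hflf _)) hfl
  refine ⟨W, hvW, (RCx W.ι).obj (K.truncGE a), ⟨⟨a, max b' a, ?_⟩, ?_⟩, ⟨?_⟩⟩
  · rintro i (hi | hi)
    · exact (Scheme.Modules.restrictFunctor W.ι).map_isZero
        ((K.truncGE a).isZero_of_isStrictlyGE a i hi)
    · exact (Scheme.Modules.restrictFunctor W.ι).map_isZero
        ((hab i (Or.inr (by omega))).of_iso (K.truncGEXIso a i (by omega)))
  · intro i
    rcases lt_trichotomy i a with hi | hi | hi
    · exact flf_restrict_of_isZero ((K.truncGE a).isZero_of_isStrictlyGE a i hi) W.ι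
    · subst hi
      have e : cokernel (K.d (i - 1) i) ≅ (K.truncGE i).X i :=
        (IsColimit.coconePointUniqueUpToIso (K.opcyclesIsCokernel (i - 1) i (by simp))
          (colimit.isColimit _)).symm ≪≫ (K.truncGEXIsoOpcycles i).symm
      exact flf_restrict_of_iso e W.ι hW
    · exact flf_restrict_of_iso (K.truncGEXIso a i hi).symm W.ι
        (isFinLocFree_restrict _ _ (hflf i))
  · have hq1 : QuasiIso (CochainComplex.truncGEMap β a) :=
      (CochainComplex.quasiIso_truncGEMap_iff β a).2 hβ
    have hq2 : QuasiIso (G.πTruncGE a) := inferInstance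
    have i1 : IsIso (DerivedCategory.Q.map (CochainComplex.truncGEMap β a)) :=
      (DerivedCategory.isIso_Q_map_iff_quasiIso _ _).2 hq1
    have i2 : IsIso (DerivedCategory.Q.map (G.πTruncGE a)) :=
      (DerivedCategory.isIso_Q_map_iff_quasiIso _ _).2 hq2
    exact (DCoh.restrictD W.ι).mapIso (asIso (DerivedCategory.Q.map (G.πTruncGE a)) ≪≫
        (asIso (DerivedCategory.Q.map (CochainComplex.truncGEMap β a))).symm) ≪≫
      (Scheme.Modules.restrictFunctor W.ι).mapDerivedCategoryFactors.app (K.truncGE a)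

end Groth.Agent.Lib.Helper5.KSixPerf
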