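import Mathlib
import Groth.Agent.Lib.Helper5.KSix.PerfNhd
import Groth.Agent.Lib.Helper5.TorAmp.FinTor
import Groth.Agent.Lib.Helper5.Perf.FlatPC
import Groth.Agent.Lib.Helper5.Perf.RelPerf

/-!
# Perfect iff pseudo-coherent, when the local rings have finite tor dimension (helper5)
-/
set_option autoImplicit false
set_option linter.unusedSectionVars false
set_option linter.unusedVariables false
universe u
open CategoryTheory CategoryTheory.Limits AlgebraicGeometry HomologicalComplex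
attribute [local instance] HasDerivedCategory.standard

namespace Groth.Agent.Lib.Helper5.KSixPerf

open Groth.Agent.Lib.Helper5.StalkTot Groth.Agent.Lib.Helper5.StalkAdj
  Groth.Agent.Lib.Helper5.PerfTri Groth.Agent.Lib.Helper5.LocNull
  Groth.Agent.Lib.Helper5.NearFLF Groth.Agent.Lib.Helper5.KSixFlat
  Groth.Agent.Lib.Helper5.KSixDesc Groth.Agent.Lib.Helper5.LocRepr
  Groth.Agent.Lib.Helper5.PCApprox Groth.Agent.Lib.Helper5.ExactHom
  Groth.Agent.Lib.Helper5.FlatPC
open Groth.Agent.Helper5.TorAmp Groth.Agent.Helper5.FlatBC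

variable {X : Scheme.{u}}

/-- **Lemma T**: stalkwise tor amplitude passes to an open subscheme -/
theorem stalk_torAmplitude_restrict (V : X.Opens) (v : V) (F : CochainComplex X.Modules ℤ)
    (a b : ℤ)
    (h : DRing.HasTorAmplitudeIn (X.presheaf.stalk (V.ι v)) a b
      (DRing.toD (stalkCx X (V.ι v) F))) :
    DRing.HasTorAmplitudeIn ((V : Scheme.{u}).presheaf.stalk v) a b
      (DRing.toD (stalkCx (V : Scheme.{u}) v ((DCoh.restrictCx V).obj F))) := by
  let _ : Algebra (X.presheaf.stalk (V.ι v)) ((V : Scheme.{u}).presheaf.stalk v) :=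
    (V.ι.stalkMap v).hom.toAlgebra
  have : Module.Flat (X.presheaf.stalk (V.ι v)) ((V : Scheme.{u}).presheaf.stalk v) :=
    Flat.stalkMap V.ι v
  have h1 := torAmp_baseChange ((V : Scheme.{u}).presheaf.stalk v) (stalkCx X (V.ι v) F) a b h
  have e1 : stalkCx (V : Scheme.{u}) v ((DCoh.restrictCx V).obj F) ≅
      stalkCx (V : Scheme.{u}) v
        (((Scheme.Modules.pullback V.ι).mapHomologicalComplex (ComplexShape.up ℤ)).obj F) :=
    ((stalkSh (V : Scheme.{u}) v).mapHomologicalComplex (ComplexShape.up ℤ)).mapIso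
      ((NatIso.mapHomologicalComplex (Scheme.Modules.restrictFunctorIsoPullback V.ι)
        (ComplexShape.up ℤ)).app F)
  exact hasTorAmplitudeIn_of_iso
    (DerivedCategory.Q.mapIso (e1 ≪≫ stalkPullCxIso V.ι v F)).symm h1

theorem stalk_torAmplitude_restrict' (V : X.Opens) (x : X) (hx : x ∈ V)
    (F : CochainComplex X.Modules ℤ) (a b : ℤ)
    (h : DRing.HasTorAmplitudeIn (X.presheaf.stalk x) a b (DRing.toD (stalkCx X x F))) :
    DRing.HasTorAmplitudeIn ((V : Scheme.{u}).presheaf.stalk ⟨x, hx⟩) a b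
      (DRing.toD (stalkCx (V : Scheme.{u}) ⟨x, hx⟩ ((DCoh.restrictCx V).obj F))) :=
  stalk_torAmplitude_restrict V ⟨x, hx⟩ F a b h

theorem LPD_of_restrict {U U' : Scheme.{u}} (k : U' ⟶ U) (j : U ⟶ X)
    [IsOpenImmersion k] [IsOpenImmersion j] {K : DCoh.D X}
    (h : LPD k ((DCoh.restrictD j).obj K)) : LPD (k ≫ j) K := by
  obtain ⟨E, hE, ⟨i⟩⟩ := h
  exact ⟨E, hE, ⟨restrictDCompObjIso k j K ≪≫ i⟩⟩

/-- a bounded pseudo-coherent complex whose stalk at `x` has finite tor dimension is perfect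
near `x` -/
theorem exists_LPD_of_pseudoCoherent_of_stalk (F : CochainComplex X.Modules ℤ) (c : ℤ)
    [F.IsGE c] (hPC : ∀ m : ℤ, DCoh.IsPseudoCoherentD m (DCoh.toD X F)) (x : X) (a₀ b₀ : ℤ)
    (hx : DRing.HasTorAmplitudeIn (X.presheaf.stalk x) a₀ b₀ (DRing.toD (stalkCx X x F))) :
    ∃ (U : Scheme.{u}) (j : U ⟶ X) (_ : IsOpenImmersion j),
      x ∈ Set.range j.base ∧ LPD j (DCoh.toD X F) := by
  obtain ⟨a, ha1, ha2⟩ : ∃ a : ℤ, a ≤ a₀ ∧ a ≤ c := ⟨min a₀ c, min_le_left _ _, min_le_right _ _⟩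
  obtain ⟨V, hxV, K, α, hK, hα⟩ := exists_approx_of_isPC (hPC (a - 1)) x
  let G : CochainComplex (V : Scheme.{u}).Modules ℤ := (DCoh.restrictCx V).obj F
  let eV : (DCoh.restrictD V.ι).obj (DCoh.toD X F) ≅ DerivedCategory.Q.obj G :=
    (Scheme.Modules.restrictFunctor V.ι).mapDerivedCategoryFactors.app F
  obtain ⟨W, hvW, hW⟩ := locally_represented hK (α ≫ eV.hom) ⟨x, hxV⟩
  obtain ⟨β, hβ⟩ := hW
  have hβq : ∀ i : ℤ, a ≤ i → QuasiIsoAt β i := by
    intro i hi
    apply quasiIsoAt_of_isIso_homology_Q_map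
    have h0 : IsIso ((DerivedCategory.homologyFunctor _ i).map (α ≫ eV.hom)) := by
      have := hα.1 i (by omega)
      rw [Functor.map_comp]
      infer_instance
    have h1 : IsIso ((DerivedCategory.homologyFunctor _ i).map
        ((DCoh.restrictD W.ι).map (α ≫ eV.hom))) := isIso_homology_map (α ≫ eV.hom) i h0
    rw [hβ, Functor.map_comp, Functor.map_comp] at h1
    have := h1
    have := IsIso.of_isIso_comp_left
      ((DerivedCategory.homologyFunctor _ i).map
        ((Scheme.Modules.restrictFunctor W.ι).mapDerivedCategoryFactors.hom.app K))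
      ((DerivedCategory.homologyFunctor _ i).map (DerivedCategory.Q.map β) ≫
        (DerivedCategory.homologyFunctor _ i).map
          ((Scheme.Modules.restrictFunctor W.ι).mapDerivedCategoryFactors.inv.app G))
    exact IsIso.of_isIso_comp_right
      ((DerivedCategory.homologyFunctor _ i).map (DerivedCategory.Q.map β))
      ((DerivedCategory.homologyFunctor _ i).map
        ((Scheme.Modules.restrictFunctor W.ι).mapDerivedCategoryFactors.inv.app G))
  have hGW : ((DCoh.restrictCx W).obj G).IsGE a := by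
    rw [CochainComplex.isGE_iff]
    intro i hi
    exact ((F.exactAt_of_isGE c i (by omega)).map (Scheme.Modules.restrictFunctor V.ι)).map
      (Scheme.Modules.restrictFunctor W.ι)
  have hst := stalk_torAmplitude_restrict' W ⟨x, hxV⟩ hvW G a₀ b₀
    (stalk_torAmplitude_restrict' V x hxV F a₀ b₀ hx)
  obtain ⟨W', hwW', hW'⟩ := exists_LPD_of_approx_stalk (U := W)
    (isStrictlyPerfect_restrict W.ι hK) β a hβq ⟨⟨x, hxV⟩, hvW⟩ a₀ b₀ ha1 hst
  have h2 : LPD W'.ι ((DCoh.restrictD W.ι).obj (DerivedCategory.Q.obj G)) :=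
    LPD_of_iso W'.ι ((Scheme.Modules.restrictFunctor W.ι).mapDerivedCategoryFactors.app G).symm hW'
  have h3 : LPD (W'.ι ≫ W.ι) ((DCoh.restrictD V.ι).obj (DCoh.toD X F)) :=
    LPD_of_iso _ eV.symm (LPD_of_restrict W'.ι W.ι h2)
  exact ⟨_, (W'.ι ≫ W.ι) ≫ V.ι, inferInstance, ⟨⟨⟨⟨x, hxV⟩, hvW⟩, hwW'⟩, rfl⟩,
    LPD_of_restrict _ V.ι h3⟩

/-- **S6194**: bounded pseudo-coherent complexes are perfect when every module over every local
ring has finite tor dimension. -/
theorem isPerfect_of_pseudoCoherent_of_finiteTorDim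
    (hX : ∀ (x : X) (M : Type u) [AddCommGroup M] [Module (X.presheaf.stalk x) M],
      DRing.HasFiniteTorDim (X.presheaf.stalk x) M)
    (F : CochainComplex X.Modules ℤ) (c d : ℤ) [(DCoh.toD X F).IsGE c] [(DCoh.toD X F).IsLE d]
    (hPC : ∀ m : ℤ, DCoh.IsPseudoCoherentD m (DCoh.toD X F)) :
    DCoh.IsPerfect (DCoh.toD X F) := by
  have hFge : F.IsGE c := (DerivedCategory.isGE_Q_obj_iff F c).1 inferInstance
  have hFle : F.IsLE d := (DerivedCategory.isLE_Q_obj_iff F d).1 inferInstance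
  apply isPerfect_of_LPD
  intro x
  have hb : ∀ i : ℤ, i < c ∨ d < i →
      Subsingleton (Dual.HD (X.presheaf.stalk x) (DRing.toD (stalkCx X x F)) i) := by
    intro i hi
    have h1 : F.ExactAt i := by
      rcases hi with hi | hi
      · exact F.exactAt_of_isGE c i hi
      · exact F.exactAt_of_isLE d i hi
    have h2 : (stalkCx X x F).ExactAt i := h1.map (stalkSh X x)
    rw [exactAt_iff_isZero_homology] at h2
    exact ModuleCat.subsingleton_of_isZero
      (h2.of_iso ((DerivedCategory.homologyFunctorFactors _ i).app (stalkCx X x F)))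
  obtain ⟨a₀, b₀, hx⟩ := (s5612_i (hX x) (DRing.toD (stalkCx X x F))).2 ⟨c, d, hb⟩
  exact exists_LPD_of_pseudoCoherent_of_stalk F c hPC x a₀ b₀ hx

end Groth.Agent.Lib.Helper5.KSixPerf
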