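import Mathlib
import Groth.Agent.Lib.Helper5.KSix.LTCx
import Groth.Agent.Lib.Helper5.TorAmp.Char
import Groth.Agent.Lib.Helper5.TorAmp.FlatLin
import Groth.Agent.Lib.Helper5.KFlat.Bdd

set_option autoImplicit false
set_option linter.unusedSectionVars false
set_option linter.unusedVariables false
set_option linter.style.haveILetI false
universe u
open CategoryTheory CategoryTheory.Limits MonoidalCategory
attribute [local instance] HasDerivedCategory.standard

namespace Groth.Agent.Lib.Helper5.KSixLT

open Groth.Agent.Lib.Helper5.KProj Groth.Agent.Lib.Helper5.KFlat Groth.Agent.Lib.Helper5.DTenLib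
open Groth.Agent.Helper5.FlatAcyc Groth.Agent.Helper5.TorAmp

section Gen
variable {C : Type*} [Category C] [Abelian C]

theorem isIso_πTruncGE_f (K : CochainComplex C ℤ) (a n : ℤ) (h : a < n) :
    IsIso ((K.πTruncGE a).f n) := by
  obtain ⟨i, hi⟩ : ∃ i : ℕ, (ComplexShape.embeddingUpIntGE a).f i = n :=
    ⟨(n - a).toNat, by show a + ((n - a).toNat : ℤ) = n; omega⟩
  have hi' : a + (i : ℤ) = n := hi
  have hb : ¬ (ComplexShape.embeddingUpIntGE a).BoundaryGE i := by
    rw [ComplexShape.boundaryGE_embeddingUpIntGE_iff]
    omega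
  exact ((ComplexShape.embeddingUpIntGE a).isIso_liftExtend_f_iff
    (K.restrictionToTruncGE' (ComplexShape.embeddingUpIntGE a))
    (K.restrictionToTruncGE'_hasLift (ComplexShape.embeddingUpIntGE a)) hi).2
    (HomologicalComplex.isIso_restrictionToTruncGE' K _ i hb)

end Gen

variable {A : Type u} [CommRing A]

/-- the canonical truncation of a K-flat complex of flats with universally vanishing cohomology
below `a` is a K-flat complex of flats vanishing below `a` -/
theorem exists_flat_rep (F : DRing.Cx A) (a : ℤ) (hF : DRing.IsKFlat A F)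
    (hflat : DRing.TermwiseFlat F)
    (hv : ∀ (M : ModuleCat.{u} A) (i : ℤ), i < a → ((TM M).obj F).ExactAt i) :
    ∃ E : DRing.Cx A, DRing.IsKFlat A E ∧ DRing.TermwiseFlat E ∧
      (∀ i : ℤ, i < a → IsZero (E.X i)) ∧ ∃ π : F ⟶ E, QuasiIso π := by
  have hex : ∀ i, i < a → F.ExactAt i := fun i hi => (hv _ i hi).of_iso (tmUnitIso F)
  have hGE : F.IsGE a := by
    rw [CochainComplex.isGE_iff]
    exact hex
  have hq : QuasiIso (F.πTruncGE a) := inferInstance
  have hEflat : DRing.TermwiseFlat (F.truncGE a) := by
    intro i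
    rcases lt_trichotomy i a with h1 | h1 | h1
    · have : Subsingleton ((F.truncGE a).X i) :=
        ModuleCat.subsingleton_of_isZero ((F.truncGE a).isZero_of_isStrictlyGE a i h1)
      infer_instance
    · subst h1
      have := flat_opcycles F hflat i (hex _ (by omega)) (fun I => hv _ _ (by omega))
      exact Module.Flat.of_linearEquiv (F.truncGEXIsoOpcycles i).toLinearEquiv
    · have := hflat i
      exact Module.Flat.of_linearEquiv (F.truncGEXIso a i h1).toLinearEquiv
  refine ⟨F.truncGE a, ?_, hEflat, fun i hi => (F.truncGE a).isZero_of_isStrictlyGE a i hi,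
    F.πTruncGE a, hq⟩
  -- K-flatness via the kernel sequence
  haveI : Epi (F.πTruncGE a) := by
    dsimp [CochainComplex.πTruncGE]
    infer_instance
  let S : ShortComplex (DRing.Cx A) :=
    ShortComplex.mk (kernel.ι (F.πTruncGE a)) (F.πTruncGE a) (kernel.condition _)
  have hS : S.ShortExact := by
    haveI : Mono S.f := by dsimp [S]; infer_instance
    haveI : Epi S.g := by dsimp [S]; infer_instance
    exact ShortComplex.ShortExact.mk (ShortComplex.exact_kernel _)
  have hSn := fun n => (HomologicalComplex.shortExact_iff_degreewise_shortExact S).1 hS n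
  have hN : ∀ n, Module.Flat A (S.X₁.X n) := by
    intro n
    haveI : Module.Flat A (S.map (HomologicalComplex.eval _ _ n)).X₂ := hflat n
    haveI : Module.Flat A (S.map (HomologicalComplex.eval _ _ n)).X₃ := hEflat n
    exact flat_X₁ _ (hSn n)
  have hNz : ∀ n, a < n → IsZero (S.X₁.X n) := by
    intro n hn
    haveI : IsIso ((F.πTruncGE a).f n) := isIso_πTruncGE_f F a n hn
    haveI : Mono (S.map (HomologicalComplex.eval _ _ n)).f := (hSn n).mono_f
    have hz : (S.map (HomologicalComplex.eval _ _ n)).f = 0 := by
      have h0 := (S.map (HomologicalComplex.eval _ _ n)).zero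
      have : IsIso (S.map (HomologicalComplex.eval _ _ n)).g := by
        show IsIso ((F.πTruncGE a).f n)
        infer_instance
      rw [← cancel_mono (S.map (HomologicalComplex.eval _ _ n)).g, h0, zero_comp]
    exact @IsZero.of_mono_eq_zero _ _ _ _ _ (S.map (HomologicalComplex.eval _ _ n)).f (hSn n).mono_f hz
  have hNK : DRing.IsKFlat A S.X₁ := isKFlat_of_bounded_above _ a hNz hN
  exact (isKFlat_ses S hS hEflat).1 hNK hF

end Groth.Agent.Lib.Helper5.KSixLT
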