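import Mathlib
import Groth.Agent.Lib.Helper5.KFlat.LBCFlat

set_option autoImplicit false
set_option linter.unusedSectionVars false
set_option linter.unusedVariables false
set_option linter.style.haveILetI false
universe u
open CategoryTheory CategoryTheory.Limits MonoidalCategory TensorProduct Polynomial
attribute [local instance] HasDerivedCategory.standard

namespace Groth.Agent.Lib.Helper5.KSixPoly

open Groth.Agent.Lib.Helper5.KProj Groth.Agent.Lib.Helper5.DTenLib Groth.Agent.Lib.Helper5.KFlat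

variable (R : Type u) [CommRing R]

/-- evaluation at zero -/
noncomputable abbrev ev : R[X] →+* R := Polynomial.evalRingHom (0 : R)

section Mod

variable {R} (N : ModuleCat.{u} R[X])

/-- multiplication by `X` -/
noncomputable def mulX : N ⟶ N := (X : R[X]) • 𝟙 N

theorem mulX_apply (n : N) : (mulX N).hom n = (X : R[X]) • n := rfl

/-- the unit `N ⟶ (N ⊗ R)|` -/
noncomputable def η : N ⟶ (ModuleCat.restrictScalars.{u} (ev R)).obj
    ((ModuleCat.extendScalars.{u, u, u} (ev R)).obj N) :=
  (ModuleCat.extendRestrictScalarsAdj (ev R)).unit.app N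

/-- `X·` on `R[X]` -/
noncomputable def f₀ : R[X] →ₗ[R[X]] R[X] := LinearMap.lsmul R[X] R[X] X

/-- evaluation at zero as a linear map to `R` with scalars restricted -/
noncomputable def g₀ : R[X] →ₗ[R[X]] (AR (ev R)) :=
  { toFun := fun p => (ev R p : R)
    map_add' := fun p q => map_add (ev R) p q
    map_smul' := fun p q => by
      show ev R (p * q) = ev R p * ev R q
      exact map_mul _ _ _ }

theorem f₀_injective : Function.Injective (f₀ (R := R)) := by
  intro p q h
  have : X * p = X * q := h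
  exact Polynomial.isRegular_X.left this

theorem f₀_g₀_exact : Function.Exact (f₀ (R := R)) (g₀ (R := R)) := by
  intro p
  constructor
  · intro hp
    have hp' : p.coeff 0 = 0 := by
      have : Polynomial.eval 0 p = 0 := hp
      rwa [← Polynomial.coeff_zero_eq_eval_zero] at this
    obtain ⟨q, rfl⟩ := Polynomial.X_dvd_iff.2 hp'
    exact ⟨q, rfl⟩
  · rintro ⟨q, rfl⟩
    show Polynomial.eval 0 (X * q) = 0
    simp

theorem g₀_surjective : Function.Surjective (g₀ (R := R)) := fun r =>
  ⟨Polynomial.C (show R from r), by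
    show Polynomial.eval 0 (Polynomial.C (show R from r)) = (show R from r)
    simp⟩

variable [Module.Flat R[X] N]

theorem mulX_injective : Function.Injective (mulX N).hom := by
  have h1 : Function.Injective ((f₀ (R := R)).lTensor N) :=
    Module.Flat.lTensor_preserves_injective_linearMap _ f₀_injective
  intro a b hab
  have h2 : (f₀ (R := R)).lTensor N (a ⊗ₜ 1) = (f₀ (R := R)).lTensor N (b ⊗ₜ 1) := by
    have ha : (f₀ (R := R)).lTensor N (a ⊗ₜ 1) = ((X : R[X]) • a) ⊗ₜ[R[X]] (1 : R[X]) := by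
      rw [LinearMap.lTensor_tmul, TensorProduct.smul_tmul]
      rfl
    have hb : (f₀ (R := R)).lTensor N (b ⊗ₜ 1) = ((X : R[X]) • b) ⊗ₜ[R[X]] (1 : R[X]) := by
      rw [LinearMap.lTensor_tmul, TensorProduct.smul_tmul]
      rfl
    rw [ha, hb]
    exact congrArg (fun t => t ⊗ₜ[R[X]] (1 : R[X])) hab
  have h3 := h1 h2
  have := congrArg (TensorProduct.rid R[X] N) h3
  simpa using this

omit [Module.Flat R[X] N] in
theorem extResLin_η (n : N) :
    extResLin (ev R) N ((η N).hom n) = (g₀ (R := R)).lTensor N (n ⊗ₜ[R[X]] (1 : R[X])) := by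
  rw [LinearMap.lTensor_tmul]
  have h2 : (g₀ (R := R)) 1 = (show AR (ev R) from (1 : R)) := by
    show Polynomial.eval 0 (1 : R[X]) = 1
    simp
  rw [h2]
  exact extResLin_tmul (ev R) N (show AR (ev R) from (1 : R)) n

omit [Module.Flat R[X] N] in
theorem rid_lTensor_f₀ (y : N ⊗[R[X]] R[X]) :
    TensorProduct.rid R[X] N ((f₀ (R := R)).lTensor N y) =
      (X : R[X]) • TensorProduct.rid R[X] N y := by
  induction y using TensorProduct.induction_on with
  | zero => simp
  | tmul m p =>
    rw [LinearMap.lTensor_tmul, TensorProduct.rid_tmul, TensorProduct.rid_tmul]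
    show (X * p) • m = X • p • m
    rw [mul_smul]
  | add a b ha hb => simp only [map_add, ha, hb, smul_add]

omit [Module.Flat R[X] N] in
theorem η_mulX (m : N) : (η N).hom ((X : R[X]) • m) = 0 := by
  rw [map_smul]
  show (ev R X) • ((η N).hom m : (ModuleCat.extendScalars.{u, u, u} (ev R)).obj N) = 0
  have : ev R X = 0 := by simp
  rw [this, zero_smul]

omit [Module.Flat R[X] N] in
theorem exact_mulX_η : Function.Exact (mulX N).hom (η N).hom := by
  intro n
  constructor
  · intro hn
    have h1 : (g₀ (R := R)).lTensor N (n ⊗ₜ[R[X]] (1 : R[X])) = 0 := by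
      rw [← extResLin_η, hn, map_zero]
    obtain ⟨y, hy⟩ := (lTensor_exact N f₀_g₀_exact g₀_surjective _).1 h1
    refine ⟨TensorProduct.rid R[X] N y, ?_⟩
    rw [mulX_apply, ← rid_lTensor_f₀, hy, TensorProduct.rid_tmul, one_smul]
  · rintro ⟨m, rfl⟩
    exact η_mulX N m

omit [Module.Flat R[X] N] in
theorem η_surjective : Function.Surjective (η N).hom := by
  intro y
  obtain ⟨w, hw⟩ := LinearMap.lTensor_surjective N g₀_surjective (extResLin (ev R) N y)
  refine ⟨TensorProduct.rid R[X] N w, ?_⟩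
  apply (extResLin (ev R) N).injective
  rw [extResLin_η, ← hw]
  congr 1
  exact (TensorProduct.rid R[X] N).symm_apply_apply w

/-- the short exact sequence `0 → N → N → (N ⊗ R)| → 0` for flat `N` -/
theorem shortExact_mulX_η :
    (ShortComplex.mk (mulX N) (η N) (by
      ext n
      exact η_mulX N n)).ShortExact := by
  haveI : Mono (mulX N) := (ModuleCat.mono_iff_injective _).2 (mulX_injective N)
  haveI : Epi (η N) := (ModuleCat.epi_iff_surjective _).2 (η_surjective N)
  refine ShortComplex.ShortExact.mk ?_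
  rw [ShortComplex.ShortExact.moduleCat_exact_iff_function_exact]
  exact exact_mulX_η N

end Mod

section Cx

variable {R} (F : DRing.Cx R[X])

/-- restriction of scalars on complexes -/
noncomputable abbrev rCx {A B : Type u} [CommRing A] [CommRing B] (f : A →+* B) :
    DRing.Cx B ⥤ DRing.Cx A :=
  (ModuleCat.restrictScalars.{u} f).mapHomologicalComplex (ComplexShape.up ℤ)

/-- multiplication by `X` on a complex -/
noncomputable def mulXc : F ⟶ F := (X : R[X]) • 𝟙 F

theorem mulXc_f (i : ℤ) : (mulXc F).f i = mulX (F.X i) := rfl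

theorem mulXc_comm {F F' : DRing.Cx R[X]} (p : F ⟶ F') : mulXc F ≫ p = p ≫ mulXc F' := by
  simp [mulXc]

/-- the unit on complexes -/
noncomputable def ηc : F ⟶ (rCx (ev R)).obj ((bcCx (ev R)).obj F) where
  f i := η (F.X i)
  comm' i j _ := ((ModuleCat.extendRestrictScalarsAdj (ev R)).unit.naturality (F.d i j)).symm

theorem shortExact_mulXc_ηc (hF : DRing.TermwiseFlat F) :
    ∃ (z : mulXc F ≫ ηc F = 0), (ShortComplex.mk (mulXc F) (ηc F) z).ShortExact := by
  have z : mulXc F ≫ ηc F = 0 := by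
    ext i : 1
    exact (ShortComplex.mk (mulX (F.X i)) (η (F.X i)) (by
      ext n
      exact η_mulX (F.X i) n)).zero
  refine ⟨z, HomologicalComplex.shortExact_of_degreewise_shortExact _ (fun i => ?_)⟩
  haveI := hF i
  exact shortExact_mulX_η (F.X i)

/-- multiplication by `X` vanishes on complexes restricted along evaluation at zero -/
theorem mulXc_restrict (M : DRing.Cx R) : mulXc ((rCx (ev R)).obj M) = 0 := by
  ext i : 1
  apply ModuleCat.hom_ext
  apply LinearMap.ext
  intro y
  show (ev R X) • (show M.X i from y) = 0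
  have : ev R X = 0 := by simp
  rw [this, zero_smul]

open Pretriangulated in
/-- if `F` is quasi-isomorphic to a complex on which `X` acts by zero, then
`(F ⊗ R)| ≅ F ⊕ F[1]` in the derived category -/
theorem nonempty_iso_biprod (hF : DRing.TermwiseFlat F) (M : DRing.Cx R)
    (p : F ⟶ (rCx (ev R)).obj M) [QuasiIso p] :
    Nonempty (DerivedCategory.Q.obj ((rCx (ev R)).obj ((bcCx (ev R)).obj F)) ≅
      DerivedCategory.Q.obj F ⊞ (DerivedCategory.Q.obj F)⟦(1 : ℤ)⟧) := by
  obtain ⟨z, hz⟩ := shortExact_mulXc_ηc F hF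
  have hT := DerivedCategory.triangleOfSES_distinguished hz
  have h0 : DerivedCategory.Q.map (mulXc F) = 0 := by
    have h1 : DerivedCategory.Q.map (mulXc F) ≫ DerivedCategory.Q.map p = 0 := by
      rw [← Functor.map_comp, mulXc_comm, mulXc_restrict, Limits.comp_zero, Functor.map_zero]
    rw [← cancel_mono (DerivedCategory.Q.map p), h1, Limits.zero_comp]
  have hT' := rot_of_distTriang _ hT
  have hz3 : (DerivedCategory.triangleOfSES hz).rotate.mor₃ = 0 := by
    show -(DerivedCategory.Q.map (mulXc F))⟦(1 : ℤ)⟧' = 0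
    rw [h0, Functor.map_zero, neg_zero]
  obtain ⟨e, -, -⟩ := exists_iso_binaryBiproduct_of_distTriang _ hT' hz3
  exact ⟨e⟩

end Cx

section Final

variable {R}

/-- `ev ∘ C = id` -/
theorem ev_comp_C : (ev R).comp (Polynomial.C : R →+* R[X]) = RingHom.id R := by
  ext r
  simp

/-- restricting along `ev` and then along `C` is the identity -/
noncomputable def resResIso :
    ModuleCat.restrictScalars.{u} (ev R) ⋙ ModuleCat.restrictScalars.{u} (Polynomial.C : R →+* R[X]) ≅
      𝟭 (ModuleCat.{u} R) :=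
  (ModuleCat.restrictScalarsComp'.{u} (Polynomial.C : R →+* R[X]) (ev R) (RingHom.id R)
    ev_comp_C.symm).symm ≪≫ ModuleCat.restrictScalarsId'.{u} (RingHom.id R) rfl

/-- the same on complexes -/
noncomputable def resResCxIso (G : DRing.Cx R) :
    (rCx (Polynomial.C : R →+* R[X])).obj ((rCx (ev R)).obj G) ≅ G :=
  HomologicalComplex.Hom.isoOfComponents (fun i => resResIso.app (G.X i))
    (fun i j _ => (resResIso.hom.naturality (G.d i j)))

/-- the same in the derived category -/
noncomputable def resResDIso (G : DRing.Cx R) :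
    (DRing.restrictD (Polynomial.C : R →+* R[X])).obj
      (DerivedCategory.Q.obj ((rCx (ev R)).obj G)) ≅ DerivedCategory.Q.obj G :=
  ((ModuleCat.restrictScalars.{u} (Polynomial.C : R →+* R[X])).mapDerivedCategoryFactors).app _ ≪≫
    DerivedCategory.Q.mapIso (resResCxIso G)

theorem main [DRing.HasLBaseChange (ev R)] (K : Dual.D R)
    [HasBinaryBiproduct K ((shiftFunctor (Dual.D R) (1 : ℤ)).obj K)] :
    Nonempty ((DRing.LBaseChange (ev R)).obj ((DRing.restrictD (ev R)).obj K) ≅
      K ⊞ (shiftFunctor (Dual.D R) (1 : ℤ)).obj K) := by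
  let M₀ : DRing.Cx R := DerivedCategory.Q.objPreimage K
  let eK : DerivedCategory.Q.obj M₀ ≅ K := DerivedCategory.Q.objObjPreimageIso K
  let N : DRing.Cx R[X] := (rCx (ev R)).obj M₀
  let F : DRing.Cx R[X] := res N
  have hF : DRing.IsKFlat R[X] F := isKFlat_res N
  have hF' : DRing.TermwiseFlat F := fun n => flat_res N n
  obtain ⟨e1⟩ := nonempty_iso_biprod F hF' M₀ (resMap N)
  let Ψ := DRing.restrictD (Polynomial.C : R →+* R[X])
  haveI : Ψ.Additive := inferInstance
  haveI : PreservesBinaryBiproducts Ψ := preservesBinaryBiproducts_of_preservesBiproducts Ψ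
  -- `restrictD ev K ≅ Q F`
  let i1 : (DRing.restrictD (ev R)).obj K ≅ DerivedCategory.Q.obj F :=
    (DRing.restrictD (ev R)).mapIso eK.symm ≪≫
      ((ModuleCat.restrictScalars.{u} (ev R)).mapDerivedCategoryFactors).app M₀ ≪≫
      (asIso (DerivedCategory.Q.map (resMap N))).symm
  let i2 : (DRing.LBaseChange (ev R)).obj ((DRing.restrictD (ev R)).obj K) ≅
      DerivedCategory.Q.obj ((bcCx (ev R)).obj F) :=
    (DRing.LBaseChange (ev R)).mapIso i1 ≪≫ lbcIsoFlat (ev R) F hF
  let i3 : DerivedCategory.Q.obj ((bcCx (ev R)).obj F) ≅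
      Ψ.obj (DerivedCategory.Q.obj F ⊞ (DerivedCategory.Q.obj F)⟦(1 : ℤ)⟧) :=
    (resResDIso ((bcCx (ev R)).obj F)).symm ≪≫ Ψ.mapIso e1
  -- `Ψ (Q F) ≅ K`
  let i4 : Ψ.obj (DerivedCategory.Q.obj F) ≅ K :=
    Ψ.mapIso (asIso (DerivedCategory.Q.map (resMap N))) ≪≫ resResDIso M₀ ≪≫ eK
  let i5 : Ψ.obj (DerivedCategory.Q.obj F ⊞ (DerivedCategory.Q.obj F)⟦(1 : ℤ)⟧) ≅
      Ψ.obj (DerivedCategory.Q.obj F) ⊞ Ψ.obj ((DerivedCategory.Q.obj F)⟦(1 : ℤ)⟧) :=
    Ψ.mapBiprod _ _
  let i6 : Ψ.obj ((DerivedCategory.Q.obj F)⟦(1 : ℤ)⟧) ≅ (shiftFunctor (Dual.D R) (1 : ℤ)).obj K :=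
    (Ψ.commShiftIso (1 : ℤ)).app _ ≪≫ (shiftFunctor (Dual.D R) (1 : ℤ)).mapIso i4
  exact ⟨i2 ≪≫ i3 ≪≫ i5 ≪≫ biprod.mapIso i4 i6⟩

end Final

end Groth.Agent.Lib.Helper5.KSixPoly
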